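import Cfsg.Agent.H711.RC.ThreeB

/-!
# S3510, row D, `PSp_4(3)`: `dead_three` (helper711)

There is no cover of an `SpEnv`-set by commuting elements of different prime orders if `|F| = 3` and
`dim V = 4`.
-/

set_option autoImplicit false
set_option linter.unusedSimpArgs false
open Cfsg

namespace Cfsg.Agent.H711.RC

open MulAction Module Cfsg.Agent.H106.RC Cfsg.Agent.H520.RC

universe u v

section env

variable {F : Type u} {V : Type v} [Field F] [AddCommGroup V] [Module F V] {B : LinearMap.BilinForm F V}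

theorem f3_pow_odd (h : Nat.card F = 3) {a : F} {r : ℕ} (hr : Odd r) (ha : a ≠ 0) : a ^ r = a := by
  obtain ⟨k, rfl⟩ := hr
  rw [pow_succ, pow_mul, pow_two, f3_sq h ha, one_pow, one_mul]

/-- number of fixed points of an isometry of prime order on an invariant subspace -/
theorem count_fix (h3 : Nat.card F = 3) [FiniteDimensional F V] {t : ↥(Sp B)} {r : ℕ} (hr : r.Prime) (ht : t ^ r = 1)
    (W : Submodule F V) (hW : ∀ w ∈ W, t.1 w ∈ W) :
    3 ^ finrank F W ≡ 3 ^ finrank F ↥(W ⊓ LinearMap.ker (t.1.toLinearMap - LinearMap.id)) [MOD r] := by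
  classical
  have : Finite F := Nat.finite_of_card_ne_zero (by omega)
  have : Finite V := Module.finite_of_finite F
  have : Fact r.Prime := ⟨hr⟩
  have : Fintype W := Fintype.ofFinite W
  let f : Function.End W := fun w => ⟨t.1 w.1, hW w.1 w.2⟩
  have hfk : ∀ (k : ℕ) (w : W), ((f ^ k) w).1 = (t ^ k).1 w.1 := by
    intro k
    induction k with
    | zero => intro w; rfl
    | succ k ih =>
      intro w
      rw [pow_succ, pow_succ]
      show ((f ^ k) (f w)).1 = (t ^ k).1 (t.1 w.1)
      rw [ih]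
  have hf : f ^ r ^ 1 = 1 := by
    funext w
    apply Subtype.ext
    rw [hfk, pow_one, ht]
    rfl
  have h1 := Equiv.Perm.card_fixedPoints_modEq hf
  rw [← Nat.card_eq_fintype_card, ← Nat.card_eq_fintype_card, Module.natCard_eq_pow_finrank (K := F), h3] at h1
  have h2 : Nat.card f.fixedPoints = Nat.card ↥(W ⊓ LinearMap.ker (t.1.toLinearMap - LinearMap.id)) := by
    refine Nat.card_congr ⟨fun w => ⟨w.1.1, w.1.2, ?_⟩, fun v => ⟨⟨v.1, v.2.1⟩, ?_⟩, fun _ => rfl, fun _ => rfl⟩
    · have h3 : f w.1 = w.1 := w.2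
      have h4 : t.1 w.1.1 = w.1.1 := congrArg Subtype.val h3
      rw [SetLike.mem_coe, LinearMap.mem_ker, LinearMap.sub_apply, LinearMap.id_apply]
      exact sub_eq_zero.2 h4
    · have h3 := v.2.2
      rw [SetLike.mem_coe, LinearMap.mem_ker, LinearMap.sub_apply, LinearMap.id_apply] at h3
      exact Subtype.ext (sub_eq_zero.1 h3)
  rw [h2, Module.natCard_eq_pow_finrank (K := F), h3] at h1
  exact h1

theorem mem_fixk {t : ↥(Sp B)} {v : V} : v ∈ LinearMap.ker (t.1.toLinearMap - LinearMap.id) ↔ t.1 v = v := by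
  rw [LinearMap.mem_ker, LinearMap.sub_apply, LinearMap.id_apply]
  exact sub_eq_zero

theorem prime_dvd_cases {r : ℕ} (hr : r.Prime) (hr5 : 5 ≤ r) :
    (r ∣ 80 → r = 5) ∧ (r ∣ 78 → r = 13) ∧ ¬ r ∣ 72 ∧ ¬ r ∣ 54 := by
  have k2 : ¬ r ∣ 2 := fun h => by have := Nat.le_of_dvd (by norm_num) h; omega
  have k3 : ¬ r ∣ 3 := fun h => by have := Nat.le_of_dvd (by norm_num) h; omega
  refine ⟨fun h => ?_, fun h => ?_, fun h => ?_, fun h => ?_⟩
  · have h1 : r ∣ 2 * 2 * 2 * 2 * 5 := by norm_num; exact h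
    simp only [hr.dvd_mul, k2, false_or] at h1
    exact (Nat.prime_dvd_prime_iff_eq hr (by norm_num)).1 h1
  · have h1 : r ∣ 2 * 3 * 13 := by norm_num; exact h
    simp only [hr.dvd_mul, k2, k3, false_or] at h1
    exact (Nat.prime_dvd_prime_iff_eq hr (by norm_num)).1 h1
  · have h1 : r ∣ 2 * 2 * 2 * 3 * 3 := by norm_num; exact h
    simp only [hr.dvd_mul, k2, k3, or_self] at h1
  · have h1 : r ∣ 2 * 3 * 3 * 3 := by norm_num; exact h
    simp only [hr.dvd_mul, k2, k3, or_self] at h1

/-- isometries of prime order at least 5 are irreducible of order 5 -/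
theorem five (h : NAlt B) (h3 : Nat.card F = 3) (h4 : finrank F V = 4) {t : ↥(Sp B)} {r : ℕ} (hr : r.Prime)
    (hr5 : 5 ≤ r) (ht : t ^ r = 1) (ht1 : t ≠ 1) :
    r = 5 ∧ ∀ W : Submodule F V, (∀ w ∈ W, t.1 w ∈ W) → W = ⊥ ∨ W = ⊤ := by
  have : FiniteDimensional F V := FiniteDimensional.of_finrank_pos (by omega)
  set K := LinearMap.ker (t.1.toLinearMap - LinearMap.id) with hK
  have hcf := count_fix h3 hr ht
  have hKt : K ≠ ⊤ := by
    intro h5
    apply ht1
    apply Subtype.ext
    apply LinearEquiv.ext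
    intro v
    exact mem_fixk.1 (show v ∈ K by rw [h5]; trivial)
  have hK4 : finrank F K < 4 := by
    rw [← h4]; exact Submodule.finrank_lt hKt
  have htop := hcf ⊤ (fun _ _ => trivial)
  rw [top_inf_eq, finrank_top, h4, ← hK] at htop
  obtain ⟨c1, c2, c3, c4⟩ := prime_dvd_cases hr hr5
  have hdv : r ∣ 3 ^ 4 - 3 ^ finrank F K :=
    (Nat.modEq_iff_dvd' (Nat.pow_le_pow_right (by norm_num) hK4.le)).1 htop.symm
  have hcase : finrank F K = 0 ∨ finrank F K = 1 := by
    have : finrank F K = 0 ∨ finrank F K = 1 ∨ finrank F K = 2 ∨ finrank F K = 3 := by omega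
    rcases this with h5 | h5 | h5 | h5
    · exact Or.inl h5
    · exact Or.inr h5
    · rw [h5] at hdv; norm_num at hdv; exact absurd hdv c3
    · rw [h5] at hdv; norm_num at hdv; exact absurd hdv c4
  rcases hcase with h5 | h5
  · rw [h5] at hdv
    norm_num at hdv
    have hr' := c1 hdv
    refine ⟨hr', fun W hW => ?_⟩
    have hK0 : K = ⊥ := Submodule.finrank_eq_zero.1 h5
    have h6 := hcf W hW
    rw [← hK, hK0, inf_bot_eq, finrank_bot, pow_zero, hr'] at h6
    have h7 : finrank F W ≤ 4 := by rw [← h4]; exact Submodule.finrank_le W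
    have h8 : finrank F W = 0 ∨ finrank F W = 1 ∨ finrank F W = 2 ∨ finrank F W = 3 ∨ finrank F W = 4 := by omega
    rcases h8 with h9 | h9 | h9 | h9 | h9
    · exact Or.inl (Submodule.finrank_eq_zero.1 h9)
    · rw [h9] at h6; exact absurd h6 (by decide)
    · rw [h9] at h6; exact absurd h6 (by decide)
    · rw [h9] at h6; exact absurd h6 (by decide)
    · exact Or.inr (Submodule.eq_top_of_finrank_eq (by rw [h9, h4]))
  · exfalso
    rw [h5] at hdv
    norm_num at hdv
    have hr' := c2 hdv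
    obtain ⟨⟨e, heK⟩, he0, hesp⟩ := finrank_eq_one_iff'.1 h5
    have he0' : e ≠ 0 := fun h6 => he0 (Subtype.ext h6)
    have hKe : ∀ k ∈ K, ∃ c : F, c • e = k := by
      intro k hk
      obtain ⟨c, hc⟩ := hesp ⟨k, hk⟩
      exact ⟨c, congrArg Subtype.val hc⟩
    have hle : K ≤ LinearMap.ker (B e) := by
      intro k hk
      obtain ⟨c, rfl⟩ := hKe k hk
      rw [LinearMap.mem_ker, map_smul, h.alt, smul_zero]
    have hte : t.1 e = e := mem_fixk.1 heK
    have h6 := hcf (LinearMap.ker (B e)) (fun w hw => by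
      rw [LinearMap.mem_ker] at hw ⊢
      have h7 : B (t.1 e) (t.1 w) = B e w := t.2 e w
      rw [hte] at h7
      rw [h7, hw])
    rw [← hK, inf_eq_right.2 hle, h5, hr'] at h6
    have h7 : finrank F (LinearMap.ker (B e)) = 3 := by
      have h8 := LinearMap.finrank_range_add_finrank_ker (B e)
      have h9 : LinearMap.range (B e) = ⊤ := by
        rw [LinearMap.range_eq_top]
        intro a
        obtain ⟨y, hy⟩ := h.exists_one he0'
        exact ⟨a • y, by rw [map_smul, hy, smul_eq_mul, mul_one]⟩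
      rw [h9, finrank_top, finrank_self, h4] at h8
      omega
    rw [h7] at h6
    exact absurd h6 (by decide)

/-- unipotent isometry: a fixed vector of the form `t v - v` -/
theorem exists_fix_three (h3 : Nat.card F = 3) {t : ↥(Sp B)} (ht : t ^ 3 = 1) (ht1 : t ≠ 1) :
    ∃ e : V, e ≠ 0 ∧ t.1 e = e := by
  have h33 := f3_three h3
  obtain ⟨w0, hw0⟩ : ∃ v, t.1 v ≠ v := by
    by_contra hno
    push Not at hno
    exact ht1 (Subtype.ext (LinearEquiv.ext hno))
  have ht3 : ∀ v, t.1 (t.1 (t.1 v)) = v := fun v => by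
    have h5 := congrArg (fun s : ↥(Sp B) => s.1 v) ht
    exact h5
  by_cases h5 : t.1 (t.1 w0 - w0) = t.1 w0 - w0
  · exact ⟨_, sub_ne_zero.2 hw0, h5⟩
  · refine ⟨_, sub_ne_zero.2 h5, ?_⟩
    have h6 := ht3 w0
    simp only [map_sub, h6]
    have h7 : (3 : F) • t.1 w0 = 0 := by rw [h33, zero_smul]
    have h8 : (3 : F) • t.1 (t.1 w0) = 0 := by rw [h33, zero_smul]
    linear_combination (norm := module) h7 - h8

/-- there are no commuting isometries of different odd prime orders -/
theorem no_two_odd (h : NAlt B) (h3 : Nat.card F = 3) (h4 : finrank F V = 4) {t t' : ↥(Sp B)} {r r' : ℕ}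
    (hr : r.Prime) (hr' : r'.Prime) (hr2 : r ≠ 2) (hrr : r < r') (ht : t ^ r = 1)
    (ht' : t' ^ r' = 1) (ht1 : t ≠ 1) (ht1' : t' ≠ 1) (hcm : t * t' = t' * t) : False := by
  have k1 : 3 ≤ r := by have := hr.two_le; omega
  have k2 : 5 ≤ r' := by
    rcases Nat.lt_or_ge r' 5 with k3 | k3
    · exfalso
      have : r' = 4 := by omega
      rw [this] at hr'
      exact absurd hr' (by norm_num)
    · exact k3
  obtain ⟨h5, hirr⟩ := five h h3 h4 hr' k2 ht' ht1'
  have h6 : r = 3 := by
    have : r = 3 ∨ r = 4 := by omega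
    rcases this with h6 | h6
    · exact h6
    · rw [h6] at hr; exact absurd hr (by norm_num)
  rw [h6] at ht
  obtain ⟨e, he0, he⟩ := exists_fix_three h3 ht ht1
  rcases hirr (LinearMap.ker (t.1.toLinearMap - LinearMap.id)) (fun w hw => by
    rw [mem_fixk] at hw ⊢
    have h7 := congrArg (fun s : ↥(Sp B) => s.1 w) hcm
    have h8 : t.1 (t'.1 w) = t'.1 (t.1 w) := h7
    rw [h8, hw]) with h7 | h7
  · have : e ∈ LinearMap.ker (t.1.toLinearMap - LinearMap.id) := mem_fixk.2 he
    rw [h7, Submodule.mem_bot] at this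
    exact he0 this
  · apply ht1
    apply Subtype.ext
    apply LinearEquiv.ext
    intro v
    exact mem_fixk.1 (show v ∈ LinearMap.ker (t.1.toLinearMap - LinearMap.id) by rw [h7]; trivial)

variable {G : Type*} [Group G] {Ω : Type*} [MulAction G Ω] {N : Subgroup G} {ρ : ↥(Sp B) →* G} {s : G}

/-- elements of odd order come from isometries of the same order -/
theorem odd_lift (E : SpEnv Ω N ρ) (h3 : Nat.card F = 3) [FiniteDimensional F V] {x : G} {r : ℕ} (hr : Odd r)
    (hx : x ^ r = 1) : ∃ t : ↥(Sp B), x = ρ t ∧ t ^ r = 1 := by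
  obtain ⟨M, hM⟩ := E.lift x
  have hMl : M.IsLin := f3_aut h3 _
  obtain ⟨a, ha, hpow⟩ := E.pow_scal hM hx
  have haa := f3_sq h3 ha
  have h := E.form
  -- the multiplier
  have hit : ∀ (k : ℕ) (u v : V), B (M^[k] u) (M^[k] v) = M.l ^ k * B u v := by
    intro k
    induction k with
    | zero => intro u v; simp
    | succ k ih =>
      intro u v
      rw [Function.iterate_succ_apply, Function.iterate_succ_apply, ih, hMl.form, pow_succ, mul_assoc]
  have hVn : Nontrivial V := Module.nontrivial_of_finrank_pos (R := F) (by have := E.dim; omega)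
  obtain ⟨v0, hv0⟩ := exists_ne (0 : V)
  obtain ⟨v1, hv1⟩ := h.exists_one hv0
  have hl : M.l = 1 := by
    have h5 := hit r v0 v1
    rw [hpow, hpow, hv1, f3_pow_odd h3 hr M.hl, map_smul, LinearMap.map_smul₂, smul_eq_mul, smul_eq_mul, hv1, mul_one,
      mul_one, haa] at h5
    exact h5.symm
  let L : V ≃ₗ[F] V := hMl.lin.trans (LinearEquiv.smulOfUnit (Units.mk0 a ha))
  have hL : ∀ v, L v = a • M v := fun v => rfl
  have hLS : L ∈ Sp B := by
    intro u v
    rw [hL, hL, map_smul, LinearMap.map_smul₂, hMl.form, hl, smul_eq_mul, smul_eq_mul]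
    linear_combination B u v * haa
  have hLk : ∀ (k : ℕ) (v : V), (((⟨L, hLS⟩ : ↥(Sp B)) ^ k).1) v = a ^ k • M^[k] v := by
    intro k
    induction k with
    | zero => intro v; rw [pow_zero, pow_zero, one_smul]; rfl
    | succ k ih =>
      intro v
      rw [pow_succ, Function.iterate_succ_apply]
      show (((⟨L, hLS⟩ : ↥(Sp B)) ^ k).1) (L v) = _
      rw [hL, map_smul, ih, smul_smul, pow_succ, mul_comm]
  refine ⟨⟨L, hLS⟩, ?_, ?_⟩
  · refine E.eq_of_lf hM ha fun v => ?_
    rw [hL, smul_smul, haa, one_smul]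
  · apply Subtype.ext
    apply LinearEquiv.ext
    intro v
    rw [hLk, hpow, f3_pow_odd h3 hr ha, smul_smul, haa, one_smul]
    rfl

/-- the lifts commute exactly -/
theorem comm_lift (E : SpEnv Ω N ρ) (h3 : Nat.card F = 3) [FiniteDimensional F V] {X : SS B} {t : ↥(Sp B)} {r : ℕ}
    (hr : Odd r) (hX : Lf ρ s X) (ht : t ^ r = 1) (hst : s * ρ t = ρ t * s) (v : V) : X (t.1 v) = t.1 (X v) := by
  obtain ⟨a, ha, h5⟩ := E.lf_comm hX (Lf.tg t) hst
  simp only [SS.tg_apply] at h5
  have hXl : X.IsLin := f3_aut h3 _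
  have h6 : ∀ (k : ℕ) (v : V), X ((t ^ k).1 v) = a ^ k • (t ^ k).1 (X v) := by
    intro k
    induction k with
    | zero => intro v; rw [pow_zero, pow_zero, one_smul]; rfl
    | succ k ih =>
      intro v
      rw [pow_succ]
      show X ((t ^ k).1 (t.1 v)) = a ^ (k + 1) • (t ^ k).1 (t.1 (X v))
      rw [ih, h5, map_smul, smul_smul, pow_succ]
  have hVn : Nontrivial V := Module.nontrivial_of_finrank_pos (R := F) (by have := E.dim; omega)
  obtain ⟨v0, hv0⟩ := exists_ne (0 : V)
  have h7 := h6 r v0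
  rw [ht, f3_pow_odd h3 hr ha] at h7
  have h8 : X v0 = a • X v0 := h7
  have ha1 : a = 1 := by
    have h9 : (a - 1) • X v0 = 0 := by rw [sub_smul, one_smul, ← h8, sub_self]
    rcases smul_eq_zero.1 h9 with h10 | h10
    · exact sub_eq_zero.1 h10
    · exact absurd (X.injective (by rw [h10, X.map_zero])) hv0
  rw [h5, ha1, one_smul]

theorem hodd_of {t : ↥(Sp B)} {r : ℕ} (hr : Odd r) (ht : t ^ r = 1) (v : V) (hv : t.1 (t.1 v) = v) : t.1 v = v := by
  obtain ⟨k, rfl⟩ := hr
  have h1 : ∀ k : ℕ, (t ^ (2 * k)).1 v = v := by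
    intro k
    induction k with
    | zero => rfl
    | succ k ih =>
      rw [mul_add, mul_one, pow_add, pow_two]
      show (t ^ (2 * k)).1 (t.1 (t.1 v)) = v
      rw [hv, ih]
  have h2 : (t ^ (2 * k + 1)).1 v = t.1 v := by
    rw [pow_succ']
    show t.1 ((t ^ (2 * k)).1 v) = _
    rw [h1]
  rw [← h2, ht]
  rfl

/-- type 3 does not occur for elements of order 5 -/
theorem dead_T3five (h : NAlt B) (h3 : Nat.card F = 3) (h4 : finrank F V = 4) {X : SS B}
    {t : ↥(Sp B)} (hX2 : ∀ v, X (X v) = -v) (hl : X.l = 1) (hcm : ∀ v, X (t.1 v) = t.1 (X v)) (ht : t ^ 5 = 1)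
    (ht1 : t ≠ 1) : False := by
  have : FiniteDimensional F V := FiniteDimensional.of_finrank_pos (by omega)
  have h33 := f3_three h3
  have hXl : X.IsLin := f3_aut h3 _
  have h2 := f3_two h3
  obtain ⟨-, hirr⟩ := five h h3 h4 (by norm_num) le_rfl ht ht1
  have ht5 : ∀ v, t.1 (t.1 (t.1 (t.1 (t.1 v)))) = v := fun v => by
    have h5 := congrArg (fun s : ↥(Sp B) => s.1 v) ht
    exact h5
  have hfix : ∀ v, t.1 v = v → v = 0 := by
    intro v hv
    rcases hirr (LinearMap.ker (t.1.toLinearMap - LinearMap.id)) (fun w hw => by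
      rw [mem_fixk] at hw ⊢
      rw [hw, hw]) with h7 | h7
    · have : v ∈ LinearMap.ker (t.1.toLinearMap - LinearMap.id) := mem_fixk.2 hv
      rw [h7, Submodule.mem_bot] at this
      exact this
    · exfalso
      apply ht1
      apply Subtype.ext
      apply LinearEquiv.ext
      intro v
      exact mem_fixk.1 (show v ∈ LinearMap.ker (t.1.toLinearMap - LinearMap.id) by rw [h7]; trivial)
  have hS : ∀ v, v + t.1 v + t.1 (t.1 v) + t.1 (t.1 (t.1 v)) + t.1 (t.1 (t.1 (t.1 v))) = 0 := by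
    intro v
    apply hfix
    simp only [map_add, ht5]
    abel
  let Y : V →ₗ[F] V := t.1.toLinearMap + t.1.toLinearMap ∘ₗ t.1.toLinearMap ∘ₗ t.1.toLinearMap ∘ₗ t.1.toLinearMap -
    LinearMap.id
  have hY : ∀ v, Y v = t.1 v + t.1 (t.1 (t.1 (t.1 v))) - v := fun v => rfl
  have hYY : ∀ v, Y (Y v) = -v := by
    intro v
    have k1 := hS v
    have k2 := ht5 v
    have k3 := ht5 (t.1 v)
    have k4 := ht5 (t.1 (t.1 v))
    have k5 := ht5 (t.1 (t.1 (t.1 v)))
    simp only [hY, map_add, map_sub, k5, k4, k3, k2]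
    have k6 : ∀ v : V, (3 : F) • v = 0 := fun v => by rw [h33, zero_smul]
    linear_combination (norm := module) k1 - k6 (t.1 v) - k6 (t.1 (t.1 (t.1 (t.1 v)))) + k6 v
  have hXY : ∀ v, X (Y v) = Y (X v) := by
    intro v
    rw [hY, hY, SS.map_sub, SS.map_add, hcm, hcm, hcm, hcm, hcm]
  have hXYpm : (∀ v, X v = Y v) ∨ ∀ v, X v = -Y v := by
    rcases hirr (LinearMap.ker (hXl.lin.toLinearMap - Y)) (fun w hw => by
      rw [LinearMap.mem_ker, LinearMap.sub_apply, sub_eq_zero] at hw ⊢
      have h5 : X w = Y w := hw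
      show X (t.1 w) = Y (t.1 w)
      rw [hcm, h5, hY, hY, map_sub, map_add]) with h5 | h5
    · right
      intro v
      have h6 : X v + Y v ∈ LinearMap.ker (hXl.lin.toLinearMap - Y) := by
        rw [LinearMap.mem_ker, LinearMap.sub_apply, sub_eq_zero]
        show X (X v + Y v) = Y (X v + Y v)
        rw [SS.map_add, map_add, hX2, hYY, hXY, add_comm]
      rw [h5, Submodule.mem_bot] at h6
      exact eq_neg_of_add_eq_zero_left h6
    · left
      intro v
      have h6 : v ∈ LinearMap.ker (hXl.lin.toLinearMap - Y) := by rw [h5]; trivial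
      rw [LinearMap.mem_ker, LinearMap.sub_apply, sub_eq_zero] at h6
      exact h6
  have hti : ∀ u v, B (t.1 u) (t.1 v) = B u v := fun u v => t.2 u v
  have hYadj : ∀ u v, B (Y u) v = B u (Y v) := by
    intro u v
    have k1 : B (t.1 u) v = B u (t.1 (t.1 (t.1 (t.1 v)))) := by
      conv_lhs => rw [← ht5 v]
      rw [hti]
    have k2 : B (t.1 (t.1 (t.1 (t.1 u)))) v = B u (t.1 v) := by
      rw [← hti, ht5]
    rw [hY, hY]
    simp only [map_sub, map_add, LinearMap.sub_apply, LinearMap.add_apply, k1, k2]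
    ring
  have hXadj : ∀ u v, B (X u) v = -B u (X v) := by
    intro u v
    have h5 := hXl.form u (X v)
    rw [hX2, hl, one_mul, map_neg] at h5
    rw [← h5, neg_neg]
  have hY0 : ∀ u v, B (Y u) v = 0 := by
    intro u v
    have k3 : 2 * B (Y u) v = 0 := by
      rcases hXYpm with h5 | h5
      · have k1 := hXadj u v
        rw [h5, h5, ← hYadj] at k1
        linear_combination k1
      · have k1 := hXadj u v
        rw [h5, h5, LinearMap.map_neg₂, map_neg, ← hYadj] at k1
        linear_combination -k1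
    exact (mul_eq_zero.1 k3).resolve_left h2
  have hVn : Nontrivial V := Module.nontrivial_of_finrank_pos (R := F) (by omega)
  obtain ⟨v0, hv0⟩ := exists_ne (0 : V)
  apply hv0
  have h5 := hYY v0
  rw [h.nd _ (hY0 v0), map_zero] at h5
  exact neg_eq_zero.1 h5.symm

/-- an involution and an element of odd prime order do not cover -/
theorem dead_two (E : SpEnv Ω N ρ) [Nonempty Ω] (h3 : Nat.card F = 3) (h4 : finrank F V = 4) (hs : s ≠ 1)
    (hs2 : s ^ 2 = 1) {u : G} {r : ℕ} (hr : r.Prime) (hr2 : r ≠ 2) (hu : u ^ r = 1) (hu1 : u ≠ 1)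
    (hsu : s * u = u * s) (hcov : Cov2 Ω s u) : False := by
  have : FiniteDimensional F V := FiniteDimensional.of_finrank_pos (by omega)
  have h := E.form
  have h2 := f3_two h3
  have hodd : Odd r := hr.odd_of_ne_two hr2
  obtain ⟨t, rfl, ht⟩ := odd_lift E h3 hodd hu
  have ht1 : t ≠ 1 := fun h5 => hu1 (by rw [h5, map_one])
  obtain ⟨X, hX⟩ := E.lift s
  have hXl : X.IsLin := f3_aut h3 _
  have hcm := comm_lift E h3 hodd hX ht hsu
  have ho := fun v => hodd_of hodd ht v
  obtain ⟨a, ha, hpow⟩ := E.pow_scal hX hs2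
  have hpow' : ∀ v, X (X v) = a • v := hpow
  have hr3 : r = 3 ∨ 5 ≤ r := by
    have := hr.two_le
    rcases Nat.lt_or_ge r 5 with k3 | k3
    · left
      have : r = 3 ∨ r = 4 := by omega
      rcases this with h6 | h6
      · exact h6
      · rw [h6] at hr; exact absurd hr (by norm_num)
    · exact Or.inr k3
  have ht3 : r = 3 → ∀ v, t.1 (t.1 (t.1 v)) = v := by
    rintro rfl v
    exact congrArg (fun s : ↥(Sp B) => s.1 v) ht
  have hl := f3_cases h3 X.l
  rcases f3_cases h3 a with h5 | h5 | h5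
  · exact ha h5
  · have hX2 : ∀ v, X (X v) = v := fun v => by rw [hpow', h5, one_smul]
    rcases hl with h6 | h6 | h6
    · exact X.hl h6
    · exact dead_T2 E h3 h4 hX hs hcov hX2 h6 hcm ho ht1
    · rcases hr3 with h7 | h7
      · exact dead_T1 E h3 h4 hX hcov hX2 h6 hcm (ht3 h7) ht1
      · obtain ⟨-, hirr⟩ := five h h3 h4 hr h7 ht ht1
        have hmem : ∀ w, w ∈ LinearMap.ker (hXl.lin.toLinearMap - LinearMap.id) ↔ X w = w := by
          intro w
          rw [LinearMap.mem_ker, LinearMap.sub_apply, sub_eq_zero]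
          rfl
        rcases hirr (LinearMap.ker (hXl.lin.toLinearMap - LinearMap.id)) (fun w hw => by
          rw [hmem] at hw ⊢
          rw [hcm, hw]) with h8 | h8
        · apply hs
          refine (E.eq_one_iff hX).2 ⟨-1, neg_ne_zero.2 one_ne_zero, fun v => ?_⟩
          have h9 : v + X v ∈ LinearMap.ker (hXl.lin.toLinearMap - LinearMap.id) := by
            rw [hmem, SS.map_add, hX2, add_comm]
          rw [h8, Submodule.mem_bot] at h9
          rw [neg_one_smul]
          exact eq_neg_of_add_eq_zero_right h9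
        · apply hs
          refine (E.eq_one_iff hX).2 ⟨1, one_ne_zero, fun v => ?_⟩
          have h9 : v ∈ LinearMap.ker (hXl.lin.toLinearMap - LinearMap.id) := by rw [h8]; trivial
          rw [one_smul]
          exact (hmem v).1 h9
  · have hX2 : ∀ v, X (X v) = -v := fun v => by rw [hpow', h5, neg_one_smul]
    rcases hl with h6 | h6 | h6
    · exact X.hl h6
    · rcases hr3 with h7 | h7
      · exact dead_T3 E h3 h4 hX hcov hX2 h6 hcm (ht3 h7) ht1
      · obtain ⟨h8, -⟩ := five h h3 h4 hr h7 ht ht1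
        rw [h8] at ht
        exact dead_T3five h h3 h4 hX2 h6 hcm ht ht1
    · exact dead_T4 E h3 h4 hX hcov hX2 h6 hcm ho ht1

/-- **`PSp_4(3)`**: no cover by commuting elements of different prime orders. -/
theorem dead_three {ι : Type*} {x : ι → G} {r : ι → ℕ} [Nonempty Ω] (E : SpEnv Ω N ρ) (hx : PF x r) (hcov : Cov Ω x)
    (h3 : Nat.card F = 3) (h4 : finrank F V = 4) : False := by
  have : FiniteDimensional F V := FiniteDimensional.of_finrank_pos (by omega)
  have hodd : ∀ i, r i ≠ 2 → Odd (r i) := fun i hi => (hx.prime i).odd_of_ne_two hi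
  have key : ∀ i j, r i ≠ 2 → r j ≠ 2 → i = j := by
    have key' : ∀ i j, r i ≠ 2 → r j ≠ 2 → r i < r j → False := by
      intro i j hi hj hij
      obtain ⟨t, ht, htr⟩ := odd_lift E h3 (hodd i hi) (hx.pow i)
      obtain ⟨t', ht', htr'⟩ := odd_lift E h3 (hodd j hj) (hx.pow j)
      have hne : t ≠ 1 := fun h5 => hx.ne i (by rw [ht, h5, map_one])
      have hne' : t' ≠ 1 := fun h5 => hx.ne j (by rw [ht', h5, map_one])
      have hc := hx.comm i j
      have h5 : ∀ v, t.1 (t'.1 v) = t'.1 (t.1 v) := by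
        intro v
        have h6 := comm_lift E h3 (hodd j hj) (Lf.tg t) htr' (by rw [← ht, ← ht']; exact hc) v
        exact h6
      exact no_two_odd E.form h3 h4 (hx.prime i) (hx.prime j) hi hij htr htr' hne hne'
        (Subtype.ext (LinearEquiv.ext h5))
    intro i j hi hj
    by_contra hne
    have hrr : r i ≠ r j := fun h5 => hne (hx.inj h5)
    rcases Nat.lt_or_gt_of_ne hrr with h5 | h5
    · exact key' i j hi hj h5
    · exact key' j i hj hi h5
  obtain ⟨ω⟩ := (inferInstance : Nonempty Ω)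
  obtain ⟨i, -⟩ := hcov ω
  have hno : Nonempty Ω := ⟨ω⟩
  obtain ⟨j, hji⟩ := Cov.two E.env hcov hx.ne i
  obtain ⟨i0, hi0⟩ : ∃ i, r i = 2 := by
    by_contra hno
    push Not at hno
    exact hji (key j i (hno j) (hno i))
  obtain ⟨j0, hj0⟩ := Cov.two E.env hcov hx.ne i0
  have hr0 : ∀ k, k ≠ i0 → r k ≠ 2 := fun k hk h5 => hk (hx.inj (by rw [h5, hi0]))
  refine dead_two E h3 h4 (hx.ne i0) (by rw [← hi0]; exact hx.pow i0) (hx.prime j0) (hr0 j0 hj0) (hx.pow j0)
    (hx.ne j0) (hx.comm i0 j0) fun ω => ?_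
  obtain ⟨k, hk⟩ := hcov ω
  by_cases hki : k = i0
  · left; rw [← hki]; exact hk
  · right
    rw [key j0 k (hr0 j0 hj0) (hr0 k hki)]
    exact hk

end env

end Cfsg.Agent.H711.RC
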