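import Mathlib

/-!
# S3509, `T = A_n`: counting conjugates (clique lemma) and the final sum over the primes
-/

set_option autoImplicit false

namespace Cfsg.Agent.H711.RCA

open Equiv Equiv.Perm

variable {α : Type*} [Fintype α] [DecidableEq α]

/-- the even permutations -/
noncomputable def Ev (α : Type*) [Fintype α] [DecidableEq α] : Finset (Perm α) := by
  classical exact Finset.univ.filter (fun s => s ∈ alternatingGroup α)

/-- the even permutations which conjugate `x` into `L` -/
noncomputable def Bd (L : Subgroup (Perm α)) (x : Perm α) : Finset (Perm α) := by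
  classical exact Finset.univ.filter (fun s => s ∈ alternatingGroup α ∧ s * x * s⁻¹ ∈ L)

theorem mem_Ev {s : Perm α} : s ∈ Ev α ↔ s ∈ alternatingGroup α := by
  classical
  simp [Ev]

theorem mem_Bd {L : Subgroup (Perm α)} {x s : Perm α} :
    s ∈ Bd L x ↔ s ∈ alternatingGroup α ∧ s * x * s⁻¹ ∈ L := by
  classical
  simp [Bd]

theorem Ev_pos : 0 < (Ev α).card :=
  Finset.card_pos.2 ⟨1, mem_Ev.2 (Subgroup.one_mem _)⟩

/-- **Clique lemma.** -/
theorem clq (L : Subgroup (Perm α)) (x : Perm α) {ι : Type*} (I : Finset ι) (t : ι → Perm α)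
    (ht : ∀ i ∈ I, t i ∈ alternatingGroup α)
    (hd : ∀ i ∈ I, ∀ j ∈ I, i ≠ j → ∀ s ∈ alternatingGroup α,
      s * (t i * x * (t i)⁻¹) * s⁻¹ ∈ L → s * (t j * x * (t j)⁻¹) * s⁻¹ ∈ L → False) :
    I.card * (Bd L x).card ≤ (Ev α).card := by
  classical
  rw [← Finset.card_product]
  refine Finset.card_le_card_of_injOn (fun p => p.2 * (t p.1)⁻¹) ?_ ?_
  · intro p hp
    have hp' := Finset.mem_product.1 hp
    exact mem_Ev.2 (Subgroup.mul_mem _ (mem_Bd.1 hp'.2).1 (Subgroup.inv_mem _ (ht _ hp'.1)))
  · rintro ⟨i, s⟩ hp ⟨j, s'⟩ hq h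
    have hp' := Finset.mem_product.1 hp
    have hq' := Finset.mem_product.1 hq
    simp only at h hp' hq'
    have hs := mem_Bd.1 hp'.2
    have hs' := mem_Bd.1 hq'.2
    by_cases hij : i = j
    · subst hij
      have : s = s' := mul_right_cancel h
      rw [this]
    · exfalso
      refine hd i hp'.1 j hq'.1 hij (s * (t i)⁻¹)
        (Subgroup.mul_mem _ hs.1 (Subgroup.inv_mem _ (ht _ hp'.1))) ?_ ?_
      · have : s * (t i)⁻¹ * (t i * x * (t i)⁻¹) * (s * (t i)⁻¹)⁻¹ = s * x * s⁻¹ := by group
        rw [this]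
        exact hs.2
      · rw [h]
        have : s' * (t j)⁻¹ * (t j * x * (t j)⁻¹) * (s' * (t j)⁻¹)⁻¹ = s' * x * s'⁻¹ := by group
        rw [this]
        exact hs'.2

/-- two conjugates of `x` which differ at at most five points are not both in a conjugate of `L` -/
theorem diff_five {L : Subgroup (Perm α)} (hJ : ∀ z ∈ L, z ≠ 1 → 6 ≤ z.support.card) {y y' s : Perm α}
    (hy : s * y * s⁻¹ ∈ L) (hy' : s * y' * s⁻¹ ∈ L) (hne : y ≠ y') (D : Finset α) (hD : D.card ≤ 5)
    (hyy : ∀ q, q ∉ D → y q = y' q) : False := by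
  have hz : s * (y⁻¹ * y') * s⁻¹ ∈ L := by
    have : s * (y⁻¹ * y') * s⁻¹ = (s * y * s⁻¹)⁻¹ * (s * y' * s⁻¹) := by group
    rw [this]
    exact L.mul_mem (L.inv_mem hy) hy'
  have hz1 : s * (y⁻¹ * y') * s⁻¹ ≠ 1 := by
    intro h
    apply hne
    have h1 : y⁻¹ * y' = 1 := by
      have : y⁻¹ * y' = s⁻¹ * (s * (y⁻¹ * y') * s⁻¹) * s := by group
      rw [this, h]
      group
    exact (inv_mul_eq_one.1 h1)
  have h6 := hJ _ hz hz1
  rw [Perm.card_support_conj] at h6
  have hsub : (y⁻¹ * y').support ⊆ D := by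
    intro q hq
    by_contra hqD
    apply Perm.mem_support.1 hq
    rw [Perm.mul_apply, ← hyy q hqD]
    exact y.symm_apply_apply q
  have := Finset.card_le_card hsub
  omega

/-- the element of prime order `r` of `⟨g⟩` -/
noncomputable def xr (g : Perm α) (r : ℕ) : Perm α := g ^ (orderOf g / r)

omit [DecidableEq α] in
theorem orderOf_xr {g : Perm α} {r : ℕ} (hr : r ∣ orderOf g) : orderOf (xr g r) = r :=
  orderOf_pow_orderOf_div (orderOf_pos g).ne' hr

omit [DecidableEq α] in
/-- a nontrivial element of `⟨g⟩` has a power `x_r` -/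
theorem exists_xr {g z : Perm α} (hz : z ∈ Subgroup.zpowers g) (hz1 : z ≠ 1) :
    ∃ r, r.Prime ∧ r ∣ orderOf g ∧ xr g r ∈ Subgroup.zpowers z := by
  have h1 : orderOf z ≠ 1 := by rwa [Ne, orderOf_eq_one_iff]
  obtain ⟨r, hr, hrz⟩ := Nat.exists_prime_and_dvd h1
  have hzg : orderOf z ∣ orderOf g := by
    obtain ⟨k, rfl⟩ := hz
    exact orderOf_dvd_of_pow_eq_one (by
      rw [← zpow_natCast, ← zpow_mul, mul_comm, zpow_mul, zpow_natCast, pow_orderOf_eq_one, one_zpow])
  have hrg := hrz.trans hzg
  refine ⟨r, hr, hrg, ?_⟩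
  -- both generate the subgroup of order `r` of the cyclic group
  have hw : z ^ (orderOf z / r) ∈ Subgroup.zpowers g := Subgroup.pow_mem _ hz _
  have how : orderOf (z ^ (orderOf z / r)) = r := orderOf_pow_orderOf_div (orderOf_pos z).ne' hrz
  have hx : xr g r ∈ Subgroup.zpowers g := Subgroup.pow_mem _ (Subgroup.mem_zpowers g) _
  have hox := orderOf_xr (g := g) hrg
  have hfin : xr g r ∈ Subgroup.zpowers (z ^ (orderOf z / r)) := by
    classical
    have h1 := IsCyclic.card_pow_eq_one_le (α := Subgroup.zpowers g) (n := r) hr.pos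
    set w : Subgroup.zpowers g := ⟨z ^ (orderOf z / r), hw⟩ with hwd
    have how' : orderOf w = r := by rw [← how, hwd, Subgroup.orderOf_mk]
    have hsub : (Finset.univ.filter (fun a => a ∈ Subgroup.zpowers w)) ⊆
        Finset.univ.filter (fun a : Subgroup.zpowers g => a ^ r = 1) := by
      intro a ha
      rw [Finset.mem_filter] at ha ⊢
      refine ⟨ha.1, ?_⟩
      obtain ⟨k, rfl⟩ := ha.2
      show (w ^ k) ^ r = 1
      rw [← zpow_natCast, ← zpow_mul, mul_comm, zpow_mul, zpow_natCast, ← how', pow_orderOf_eq_one, one_zpow]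
    have hc : (Finset.univ.filter (fun a => a ∈ Subgroup.zpowers w)).card = r := by
      have := Nat.card_zpowers w
      rw [how', Nat.card_eq_fintype_card, Fintype.card_subtype] at this
      exact this
    have heq := Finset.eq_of_subset_of_card_le hsub (by rw [hc]; exact h1)
    have hxm : (⟨xr g r, hx⟩ : Subgroup.zpowers g) ∈ Finset.univ.filter (fun a : Subgroup.zpowers g => a ^ r = 1) := by
      rw [Finset.mem_filter]
      refine ⟨Finset.mem_univ _, ?_⟩
      apply Subtype.ext
      show (xr g r) ^ r = 1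
      have h5 := pow_orderOf_eq_one (xr g r)
      rwa [hox] at h5
    rw [← heq, Finset.mem_filter] at hxm
    obtain ⟨k, hk⟩ := hxm.2
    refine ⟨k, ?_⟩
    have := congrArg Subtype.val hk
    exact this
  exact Subgroup.zpowers_le.2 (Subgroup.pow_mem _ (Subgroup.mem_zpowers z) _) hfin

/-- **Union bound.** -/
theorem union_bound (L : Subgroup (Perm α)) (g : Perm α)
    (hs : ∑ r ∈ (orderOf g).primeFactors, (Bd L (xr g r)).card < (Ev α).card) :
    ∃ s ∈ alternatingGroup α, ∀ z ∈ Subgroup.zpowers g, s * z * s⁻¹ ∈ L → z = 1 := by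
  classical
  by_contra hcon
  push Not at hcon
  have hsub : Ev α ⊆ (orderOf g).primeFactors.biUnion (fun r => Bd L (xr g r)) := by
    intro s hs
    obtain ⟨z, hz, hzL, hz1⟩ := hcon s (mem_Ev.1 hs)
    obtain ⟨r, hr, hrg, hx⟩ := exists_xr hz hz1
    refine Finset.mem_biUnion.2 ⟨r, Nat.mem_primeFactors.2 ⟨hr, hrg, (orderOf_pos g).ne'⟩,
      mem_Bd.2 ⟨mem_Ev.1 hs, ?_⟩⟩
    obtain ⟨k, hk⟩ := hx
    have hk' : z ^ k = xr g r := hk
    rw [← hk']
    have : s * z ^ k * s⁻¹ = (s * z * s⁻¹) ^ k := by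
      rw [conj_zpow]
    rw [this]
    exact L.zpow_mem hzL k
  have := (Finset.card_le_card hsub).trans Finset.card_biUnion_le
  omega

/-- the bounds -/
noncomputable def cr (r : ℕ) : ℚ :=
  if r = 2 then 1 / 3 else if r = 3 then 1 / 4 else if r = 5 then 1 / 12 else if r = 7 then 1 / 12 else
    4 / ((r - 1) * (r - 3))

theorem cr_sum (m : ℕ) (hm : 5 ≤ m) :
    ∑ r ∈ (Finset.range (2 * m)).filter Nat.Prime, cr r ≤ 1 - 1 / ((m : ℚ) - 1) := by
  induction m, hm using Nat.le_induction with
  | base =>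
    have h : (Finset.range (2 * 5)).filter Nat.Prime = {2, 3, 5, 7} := by decide
    rw [h]
    rw [Finset.sum_insert (by decide), Finset.sum_insert (by decide), Finset.sum_insert (by decide),
      Finset.sum_singleton]
    norm_num [cr]
  | succ m hm ih =>
    have h1 : (Finset.range (2 * (m + 1))).filter Nat.Prime ⊆
        insert (2 * m + 1) ((Finset.range (2 * m)).filter Nat.Prime) := by
      intro r hr
      rw [Finset.mem_filter, Finset.mem_range] at hr
      rw [Finset.mem_insert, Finset.mem_filter, Finset.mem_range]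
      by_cases h2 : r = 2 * m + 1
      · exact Or.inl h2
      · right
        refine ⟨?_, hr.2⟩
        by_contra h3
        have h4 : r = 2 * m := by omega
        have h5 : 2 ∣ r := ⟨m, h4⟩
        have := (Nat.prime_dvd_prime_iff_eq Nat.prime_two hr.2).1 h5
        omega
    have hnn : ∀ r, 0 ≤ cr r ∨ r < 4 := by
      intro r
      by_cases hr : r < 4
      · exact Or.inr hr
      · left
        unfold cr
        have h3 : (3 : ℚ) < r := by exact_mod_cast (by omega : 3 < r)
        split_ifs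
        · norm_num
        · norm_num
        · norm_num
        · norm_num
        · apply div_nonneg (by norm_num)
          apply mul_nonneg <;> linarith
    have hnm : (2 * m + 1) ∉ (Finset.range (2 * m)).filter Nat.Prime := by
      rw [Finset.mem_filter, Finset.mem_range]
      omega
    have h2 : ∑ r ∈ (Finset.range (2 * (m + 1))).filter Nat.Prime, cr r ≤
        ∑ r ∈ insert (2 * m + 1) ((Finset.range (2 * m)).filter Nat.Prime), cr r := by
      apply Finset.sum_le_sum_of_subset_of_nonneg h1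
      intro r hr hr'
      rcases Finset.mem_insert.1 hr with h | h
      · rcases hnn r with h' | h'
        · exact h'
        · omega
      · exfalso
        apply hr'
        rw [Finset.mem_filter, Finset.mem_range] at h ⊢
        exact ⟨by omega, h.2⟩
    rw [Finset.sum_insert hnm] at h2
    have hc : cr (2 * m + 1) = 1 / ((m : ℚ) * (m - 1)) := by
      unfold cr
      rw [if_neg (by omega), if_neg (by omega), if_neg (by omega), if_neg (by omega)]
      have hm0 : (m : ℚ) ≠ 0 := by
        have : (0 : ℚ) < m := by exact_mod_cast (by omega : 0 < m)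
        exact this.ne'
      have hm1 : (m : ℚ) - 1 ≠ 0 := by
        have : (1 : ℚ) < m := by exact_mod_cast (by omega : 1 < m)
        linarith
      push_cast
      have e1 : (2 * (m : ℚ) + 1 - 1) = 2 * m := by ring
      have e2 : (2 * (m : ℚ) + 1 - 3) = 2 * (m - 1) := by ring
      rw [e1, e2]
      field_simp
      norm_num
    have hm0 : (0 : ℚ) < m := by exact_mod_cast (by omega : 0 < m)
    have hm1 : (0 : ℚ) < (m : ℚ) - 1 := by
      have : (1 : ℚ) < m := by exact_mod_cast (by omega : 1 < m)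
      linarith
    calc _ ≤ _ := h2
      _ ≤ 1 / ((m : ℚ) * (m - 1)) + (1 - 1 / ((m : ℚ) - 1)) := by
        rw [hc]
        linarith
      _ = 1 - 1 / (((m + 1 : ℕ) : ℚ) - 1) := by
        push_cast
        have : (m : ℚ) + 1 - 1 = m := by ring
        rw [this]
        field_simp
        ring

/-- the sum over the primes -/
theorem cr_sum_lt (S : Finset ℕ) (hS : ∀ r ∈ S, r.Prime) : ∑ r ∈ S, cr r < 1 := by
  obtain ⟨m, hm5, hm⟩ : ∃ m : ℕ, 5 ≤ m ∧ ∀ r ∈ S, r < 2 * m := by
    refine ⟨S.sup id + 5, by omega, ?_⟩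
    intro r hr
    have : r ≤ S.sup id := Finset.le_sup (f := id) hr
    omega
  have h1 := cr_sum m hm5
  have h2 : ∑ r ∈ S, cr r ≤ ∑ r ∈ (Finset.range (2 * m)).filter Nat.Prime, cr r := by
    apply Finset.sum_le_sum_of_subset_of_nonneg
    · intro r hr
      rw [Finset.mem_filter, Finset.mem_range]
      exact ⟨hm r hr, hS r hr⟩
    · intro r hr _
      rw [Finset.mem_filter, Finset.mem_range] at hr
      unfold cr
      split_ifs with h2 h3 h5 h7
      · norm_num
      · norm_num
      · norm_num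
      · norm_num
      · have h4 : 3 < r := by
          have := hr.2.two_le
          omega
        have : (3 : ℚ) < r := by exact_mod_cast h4
        apply div_nonneg (by norm_num)
        apply mul_nonneg <;> linarith
  have hm1 : (0 : ℚ) < (m : ℚ) - 1 := by
    have : (1 : ℚ) < m := by exact_mod_cast (by omega : 1 < m)
    linarith
  have h3 : 0 < 1 / ((m : ℚ) - 1) := by positivity
  linarith

/-- **From the bounds to a regular point.** -/
theorem reg_of_bounds (L : Subgroup (Perm α)) (g : Perm α)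
    (hb : ∀ x : Perm α, ∀ r : ℕ, r.Prime → orderOf x = r → ((Bd L x).card : ℚ) ≤ cr r * (Ev α).card) :
    ∃ s ∈ alternatingGroup α, ∀ z ∈ Subgroup.zpowers g, s * z * s⁻¹ ∈ L → z = 1 := by
  apply union_bound
  have h1 : (∑ r ∈ (orderOf g).primeFactors, ((Bd L (xr g r)).card : ℚ)) ≤
      ∑ r ∈ (orderOf g).primeFactors, cr r * (Ev α).card := by
    apply Finset.sum_le_sum
    intro r hr
    have hr' := Nat.mem_primeFactors.1 hr
    exact hb _ r hr'.1 (orderOf_xr hr'.2.1)
  rw [← Finset.sum_mul] at h1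
  have h2 := cr_sum_lt (orderOf g).primeFactors (fun r hr => (Nat.mem_primeFactors.1 hr).1)
  have h3 : (0 : ℚ) < (Ev α).card := by exact_mod_cast Ev_pos (α := α)
  have h4 : ((∑ r ∈ (orderOf g).primeFactors, (Bd L (xr g r)).card : ℕ) : ℚ) < ((Ev α).card : ℚ) := by
    push_cast
    calc _ ≤ _ := h1
      _ < 1 * (Ev α).card := by
        apply mul_lt_mul_of_pos_right h2 h3
      _ = _ := one_mul _
  exact_mod_cast h4

end Cfsg.Agent.H711.RCA
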