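import Mathlib
import Cfsg.Agent.H711.RC.Clq

/-!
# S3509, `T = A_n`: families of conjugates which differ at at most five points
-/

set_option autoImplicit false

namespace Cfsg.Agent.H711.RCA

open Equiv Equiv.Perm

variable {α : Type*} [Fintype α] [DecidableEq α]

/-- every nontrivial element of `L` moves at least six points -/
def Six (L : Subgroup (Perm α)) : Prop := ∀ z ∈ L, z ≠ 1 → 6 ≤ z.support.card

theorem Bd_empty {L : Subgroup (Perm α)} (hJ : Six L) {x : Perm α} (hx1 : x ≠ 1) (h : x.support.card < 6) :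
    (Bd L x).card = 0 := by
  rw [Finset.card_eq_zero, Finset.eq_empty_iff_forall_notMem]
  intro s hs
  have h1 := (mem_Bd.1 hs).2
  have h2 := hJ _ h1 (by
    intro h3
    apply hx1
    have : x = s⁻¹ * (s * x * s⁻¹) * s := by group
    rw [this, h3]
    group)
  rw [Perm.card_support_conj] at h2
  omega

/-- a family of permutations `t` supported in a small set `E` -/
theorem fam {L : Subgroup (Perm α)} (hJ : Six L) (x : Perm α) (E : Finset α)
    (hE : (E ∪ E.image ⇑x⁻¹).card ≤ 5) {ι : Type*} (I : Finset ι) (t : ι → Perm α)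
    (hev : ∀ i ∈ I, t i ∈ alternatingGroup α) (hs : ∀ i ∈ I, ∀ q, q ∉ E → t i q = q)
    (hinj : ∀ i ∈ I, ∀ j ∈ I, t i * x * (t i)⁻¹ = t j * x * (t j)⁻¹ → i = j) :
    I.card * (Bd L x).card ≤ (Ev α).card := by
  apply clq L x I t hev
  intro i hi j hj hij s _ h1 h2
  have key : ∀ k ∈ I, ∀ q, q ∉ E ∪ E.image ⇑x⁻¹ → (t k * x * (t k)⁻¹) q = x q := by
    intro k hk q hq
    rw [Finset.mem_union, not_or] at hq
    have hxq : x q ∉ E := by
      intro h
      apply hq.2
      exact Finset.mem_image.2 ⟨x q, h, x.symm_apply_apply q⟩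
    have h3 : (t k)⁻¹ q = q := Perm.inv_eq_iff_eq.2 (hs k hk q hq.1).symm
    rw [Perm.mul_apply, Perm.mul_apply, h3, hs k hk _ hxq]
  refine diff_five hJ h1 h2 (fun h => hij (hinj i hi j hj h)) _ hE ?_
  intro q hq
  rw [key i hi q hq, key j hj q hq]

/-- the same, odd permutations allowed if `x` commutes with an odd permutation -/
theorem fam_odd {L : Subgroup (Perm α)} (hJ : Six L) (x : Perm α) (E : Finset α)
    (hE : (E ∪ E.image ⇑x⁻¹).card ≤ 5) {ι : Type*} (I : Finset ι) (t : ι → Perm α)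
    (o : Perm α) (ho : o ∉ alternatingGroup α) (hox : o * x = x * o)
    (hs : ∀ i ∈ I, ∀ q, q ∉ E → t i q = q)
    (hinj : ∀ i ∈ I, ∀ j ∈ I, t i * x * (t i)⁻¹ = t j * x * (t j)⁻¹ → i = j) :
    I.card * (Bd L x).card ≤ (Ev α).card := by
  classical
  let t' : ι → Perm α := fun i => if t i ∈ alternatingGroup α then t i else t i * o
  have ht' : ∀ i, t' i * x * (t' i)⁻¹ = t i * x * (t i)⁻¹ := by
    intro i
    simp only [t']
    split_ifs
    · rfl
    · rw [mul_assoc (t i) o x, hox]
      group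
  apply clq L x I t'
  · intro i _
    simp only [t']
    split_ifs with h
    · exact h
    · rw [mem_alternatingGroup] at h ho ⊢
      rw [Perm.sign_mul, (Int.units_eq_one_or _).resolve_left h, (Int.units_eq_one_or _).resolve_left ho]
      rfl
  intro i hi j hj hij s _ h1 h2
  rw [ht'] at h1 h2
  have key : ∀ k ∈ I, ∀ q, q ∉ E ∪ E.image ⇑x⁻¹ → (t k * x * (t k)⁻¹) q = x q := by
    intro k hk q hq
    rw [Finset.mem_union, not_or] at hq
    have hxq : x q ∉ E := by
      intro h
      apply hq.2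
      exact Finset.mem_image.2 ⟨x q, h, x.symm_apply_apply q⟩
    have h3 : (t k)⁻¹ q = q := Perm.inv_eq_iff_eq.2 (hs k hk q hq.1).symm
    rw [Perm.mul_apply, Perm.mul_apply, h3, hs k hk _ hxq]
  refine diff_five hJ h1 h2 (fun h => hij (hinj i hi j hj h)) _ hE ?_
  intro q hq
  rw [key i hi q hq, key j hj q hq]

/-! ### The cycle of a moved point -/

variable {x : Perm α} {r : ℕ} {p : α}

omit [Fintype α] [DecidableEq α] in
theorem pow_ne (hr : r.Prime) (hx : orderOf x = r) (hp : x p ≠ p) {d : ℕ} (h0 : 0 < d) (hd : d < r) :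
    (x ^ d) p ≠ p := by
  intro h
  have h1 : Function.IsPeriodicPt x d p := by
    show (⇑x)^[d] p = p
    rwa [← Perm.coe_pow]
  have h2 : Function.IsPeriodicPt x r p := by
    show (⇑x)^[r] p = p
    rw [← Perm.coe_pow, ← hx, pow_orderOf_eq_one]
    rfl
  have h3 := h1.gcd h2
  have h4 : d.gcd r = 1 := Nat.Coprime.symm ((Nat.Prime.coprime_iff_not_dvd hr).2
    (fun h => absurd (Nat.le_of_dvd h0 h) (by omega)))
  rw [h4] at h3
  exact hp h3

omit [Fintype α] [DecidableEq α] in
theorem cinj (hr : r.Prime) (hx : orderOf x = r) (hp : x p ≠ p) {m k : ℕ} (hm : m < r) (hk : k < r)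
    (h : (x ^ m) p = (x ^ k) p) : m = k := by
  rcases lt_trichotomy m k with h1 | h1 | h1
  · exfalso
    apply pow_ne hr hx hp (d := k - m) (by omega) (by omega)
    have : x ^ k = x ^ m * x ^ (k - m) := by rw [← pow_add]; congr 1; omega
    rw [this, Perm.mul_apply] at h
    exact ((x ^ m).injective h).symm
  · exact h1
  · exfalso
    apply pow_ne hr hx hp (d := m - k) (by omega) (by omega)
    have : x ^ m = x ^ k * x ^ (m - k) := by rw [← pow_add]; congr 1; omega
    rw [this, Perm.mul_apply] at h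
    exact ((x ^ k).injective h)

omit [Fintype α] [DecidableEq α] in
theorem csucc (m : ℕ) : x ((x ^ m) p) = (x ^ (m + 1)) p := by
  rw [pow_succ', Perm.mul_apply]

/-! ### Involutions -/

theorem bd_two {L : Subgroup (Perm α)} (hJ : Six L) (hx : orderOf x = 2) :
    3 * (Bd L x).card ≤ (Ev α).card := by
  have hx1 : x ≠ 1 := by
    rintro rfl
    rw [orderOf_one] at hx
    omega
  by_cases h6 : x.support.card < 6
  · rw [Bd_empty hJ hx1 h6]
    omega
  have hxx : ∀ q, x (x q) = q := by
    intro q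
    have := pow_orderOf_eq_one x
    rw [hx, sq] at this
    rw [← Perm.mul_apply, this]
    rfl
  obtain ⟨a, ha⟩ : ∃ a, a ∈ x.support := Finset.card_pos.1 (by omega)
  obtain ⟨b, hb, hbn⟩ : ∃ b ∈ x.support, b ∉ ({a, x a} : Finset α) :=
    Finset.exists_mem_notMem_of_card_lt_card (lt_of_le_of_lt (Finset.card_le_two) (by omega))
  rw [Finset.mem_insert, Finset.mem_singleton, not_or] at hbn
  rw [Perm.mem_support] at ha hb
  have hba : x b ≠ a := by
    intro h
    apply hbn.2
    rw [← h, hxx]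
  have hbb : x b ≠ x a := fun h => hbn.1 (x.injective h)
  let c : Perm α := swap a (x a) * swap (x a) b
  have c1 : c a = x a := by
    show swap a (x a) (swap (x a) b a) = x a
    rw [swap_apply_of_ne_of_ne ha.symm (Ne.symm hbn.1), swap_apply_left]
  have c2 : c (x a) = b := by
    show swap a (x a) (swap (x a) b (x a)) = b
    rw [swap_apply_left, swap_apply_of_ne_of_ne hbn.1 hbn.2]
  have c3 : c b = a := by
    show swap a (x a) (swap (x a) b b) = a
    rw [swap_apply_right, swap_apply_right]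
  have c4 : ∀ q, q ≠ a → q ≠ x a → q ≠ b → c q = q := by
    intro q h1 h2 h3
    show swap a (x a) (swap (x a) b q) = q
    rw [swap_apply_of_ne_of_ne h2 h3, swap_apply_of_ne_of_ne h1 h2]
  have c1' : c⁻¹ (x a) = a := Perm.inv_eq_iff_eq.2 c1.symm
  have c2' : c⁻¹ b = x a := Perm.inv_eq_iff_eq.2 c2.symm
  have c3' : c⁻¹ a = b := Perm.inv_eq_iff_eq.2 c3.symm
  have c4' : c⁻¹ (x b) = x b := Perm.inv_eq_iff_eq.2 (c4 _ hba hbb hb).symm
  have hcev : c ∈ alternatingGroup α := by
    rw [mem_alternatingGroup]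
    show sign (swap a (x a) * swap (x a) b) = 1
    rw [Perm.sign_mul, sign_swap (Ne.symm ha), sign_swap (Ne.symm hbn.2)]
    rfl
  let t : Fin 3 → Perm α := ![1, c, c⁻¹]
  have h := fam (L := L) hJ x {a, x a, b, x b} (by
    have : ({a, x a, b, x b} : Finset α) ∪ ({a, x a, b, x b} : Finset α).image ⇑x⁻¹ ⊆ {a, x a, b, x b} := by
      intro q hq
      rw [Finset.mem_union] at hq
      rcases hq with hq | hq
      · exact hq
      · obtain ⟨q', hq', rfl⟩ := Finset.mem_image.1 hq
        have hi : x⁻¹ q' = x q' := Perm.inv_eq_iff_eq.2 (hxx q').symm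
        rw [hi]
        simp only [Finset.mem_insert, Finset.mem_singleton] at hq' ⊢
        rcases hq' with rfl | rfl | rfl | rfl
        · simp
        · rw [hxx]; simp
        · simp
        · rw [hxx]; simp
    exact (Finset.card_le_card this).trans (Finset.card_le_four.trans (by omega)))
    (I := Finset.univ) t ?_ ?_ ?_
  · simpa using h
  · intro i _
    fin_cases i
    · exact Subgroup.one_mem _
    · exact hcev
    · exact Subgroup.inv_mem _ hcev
  · intro i _ q hq
    simp only [Finset.mem_insert, Finset.mem_singleton, not_or] at hq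
    fin_cases i
    · rfl
    · exact c4 q hq.1 hq.2.1 hq.2.2.1
    · exact Perm.inv_eq_iff_eq.2 (c4 q hq.1 hq.2.1 hq.2.2.1).symm
  · have e0 : (t 0 * x * (t 0)⁻¹) a = x a := by
      show (1 * x * 1⁻¹) a = x a
      simp
    have e1 : (t 1 * x * (t 1)⁻¹) a = x b := by
      show (c * x * c⁻¹) a = x b
      rw [Perm.mul_apply, Perm.mul_apply, c3', c4 _ hba hbb hb]
    have e2 : (t 2 * x * (t 2)⁻¹) a = b := by
      show (c⁻¹ * x * c⁻¹⁻¹) a = b
      rw [Perm.mul_apply, Perm.mul_apply, inv_inv, c1, hxx, c3']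
    intro i _ j _ hij
    have hij' := congrArg (fun f : Perm α => f a) hij
    fin_cases i <;> fin_cases j
    · rfl
    · exfalso
      have : (t 0 * x * (t 0)⁻¹) a = (t 1 * x * (t 1)⁻¹) a := hij'
      rw [e0, e1] at this
      exact hbb this.symm
    · exfalso
      have : (t 0 * x * (t 0)⁻¹) a = (t 2 * x * (t 2)⁻¹) a := hij'
      rw [e0, e2] at this
      exact hbn.2 this.symm
    · exfalso
      have : (t 1 * x * (t 1)⁻¹) a = (t 0 * x * (t 0)⁻¹) a := hij'
      rw [e0, e1] at this
      exact hbb this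
    · rfl
    · exfalso
      have : (t 1 * x * (t 1)⁻¹) a = (t 2 * x * (t 2)⁻¹) a := hij'
      rw [e1, e2] at this
      exact hb this
    · exfalso
      have : (t 2 * x * (t 2)⁻¹) a = (t 0 * x * (t 0)⁻¹) a := hij'
      rw [e0, e2] at this
      exact hbn.2 this
    · exfalso
      have : (t 2 * x * (t 2)⁻¹) a = (t 1 * x * (t 1)⁻¹) a := hij'
      rw [e1, e2] at this
      exact hb this.symm
    · rfl

end Cfsg.Agent.H711.RCA
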