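import Mathlib
import Cfsg.Agent.H711.RC.Fam

/-!
# S3509, `T = A_n`: elements of odd prime order
-/

set_option autoImplicit false

namespace Cfsg.Agent.H711.RCA

open Equiv Equiv.Perm

variable {α : Type*} [Fintype α] [DecidableEq α] {x : Perm α} {r : ℕ} {p : α}

omit [Fintype α] in
/-- evaluation of a permutation of `Fin k` carried to `α` -/
theorem via_inj {k : ℕ} (f : Fin k ↪ α) {σ τ : Perm (Fin k)}
    (h : ∀ i, σ.viaFintypeEmbedding f (f i) = τ.viaFintypeEmbedding f (f i)) : σ = τ := by
  ext i
  have h1 := h i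
  rw [Perm.viaFintypeEmbedding_apply_image, Perm.viaFintypeEmbedding_apply_image] at h1
  rw [f.injective h1]

/-! ### Order at least five: four consecutive points -/

/-- the four points `p, x p, x² p, x³ p` -/
def four (hr : r.Prime) (hx : orderOf x = r) (hp : x p ≠ p) (h5 : 5 ≤ r) : Fin 4 ↪ α where
  toFun i := (x ^ (i : ℕ)) p
  inj' := by
    intro i j h
    exact Fin.ext (cinj hr hx hp (by omega) (by omega) h)

theorem bd_five {L : Subgroup (Perm α)} (hJ : Six L) (hr : r.Prime) (hx : orderOf x = r) (h5 : 5 ≤ r) :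
    12 * (Bd L x).card ≤ (Ev α).card := by
  classical
  have hx1 : x ≠ 1 := by
    rintro rfl
    rw [orderOf_one] at hx
    omega
  obtain ⟨p, hp⟩ : ∃ p, x p ≠ p := by
    by_contra h
    push Not at h
    exact hx1 (Perm.ext h)
  let f : Fin 4 ↪ α := four hr hx hp h5
  have hf : ∀ i : Fin 4, f i = (x ^ (i : ℕ)) p := fun i => rfl
  let E : Finset α := Finset.univ.image f
  have hmemE : ∀ q, q ∈ E ↔ q ∈ Set.range f := by
    intro q
    simp [E]
  -- the point before the first one
  let e : α := (x ^ (r - 1)) p
  have hxe : x e = p := by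
    show x ((x ^ (r - 1)) p) = p
    rw [csucc, Nat.sub_add_cancel (by omega), ← hx, pow_orderOf_eq_one]
    rfl
  have heE : e ∉ Set.range f := by
    rintro ⟨i, hi⟩
    have h1 : (x ^ (i : ℕ)) p = (x ^ (r - 1)) p := hi
    have := cinj hr hx hp (by omega) (by omega) h1
    have := i.2
    omega
  have h := fam (L := L) hJ x E (by
    have : E ∪ E.image ⇑x⁻¹ ⊆ insert e E := by
      intro q hq
      rw [Finset.mem_union] at hq
      rw [Finset.mem_insert]
      rcases hq with hq | hq
      · exact Or.inr hq
      · obtain ⟨q', hq', rfl⟩ := Finset.mem_image.1 hq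
        obtain ⟨i, hi⟩ := (hmemE q').1 hq'
        rcases Nat.eq_zero_or_pos (i : ℕ) with h0 | h0
        · left
          rw [Perm.inv_eq_iff_eq, hxe, ← hi, hf, h0]
          rfl
        · right
          rw [hmemE]
          refine ⟨⟨(i : ℕ) - 1, by omega⟩, ?_⟩
          rw [eq_comm, Perm.inv_eq_iff_eq, hf, csucc, ← hi, hf]
          congr 2
          simp only
          omega
    refine (Finset.card_le_card this).trans ((Finset.card_insert_le _ _).trans ?_)
    have : E.card ≤ 4 := Finset.card_image_le.trans (by simp)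
    omega) (I := Finset.univ.filter (fun σ : Perm (Fin 4) => sign σ = 1))
    (fun σ => σ.viaFintypeEmbedding f) ?_ ?_ ?_
  · have hc : (Finset.univ.filter (fun σ : Perm (Fin 4) => sign σ = 1)).card = 12 := by decide
    rwa [hc] at h
  · intro σ hσ
    rw [mem_alternatingGroup, Perm.viaFintypeEmbedding_sign]
    exact (Finset.mem_filter.1 hσ).2
  · intro σ _ q hq
    exact Perm.viaFintypeEmbedding_apply_notMem_range _ _ (fun h => hq ((hmemE q).2 h))
  · intro σ _ τ _ h
    -- both conjugates carry `σ (x^i p)` to ...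
    have key : ∀ m : ℕ, (hm : m < 4) → σ.viaFintypeEmbedding f (f ⟨m, hm⟩) = τ.viaFintypeEmbedding f (f ⟨m, hm⟩) := by
      intro m
      induction m with
      | zero =>
        intro hm
        have h1 := congrArg (fun w : Perm α => w e) h
        have h2 : ∀ ρ : Perm (Fin 4), (ρ.viaFintypeEmbedding f * x * (ρ.viaFintypeEmbedding f)⁻¹) e =
            ρ.viaFintypeEmbedding f (f ⟨0, hm⟩) := by
          intro ρ
          have h3 : (ρ.viaFintypeEmbedding f)⁻¹ e = e :=
            Perm.inv_eq_iff_eq.2 (Perm.viaFintypeEmbedding_apply_notMem_range _ _ heE).symm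
          rw [Perm.mul_apply, Perm.mul_apply, h3, hxe]
          rfl
        have h1' : (σ.viaFintypeEmbedding f * x * (σ.viaFintypeEmbedding f)⁻¹) e =
            (τ.viaFintypeEmbedding f * x * (τ.viaFintypeEmbedding f)⁻¹) e := h1
        rwa [h2, h2] at h1'
      | succ m ih =>
        intro hm
        have ih' := ih (by omega)
        have h2 : ∀ ρ : Perm (Fin 4), (ρ.viaFintypeEmbedding f * x * (ρ.viaFintypeEmbedding f)⁻¹)
            (ρ.viaFintypeEmbedding f (f ⟨m, by omega⟩)) =
            ρ.viaFintypeEmbedding f (f ⟨m + 1, hm⟩) := by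
          intro ρ
          have h3 : (ρ.viaFintypeEmbedding f)⁻¹ (ρ.viaFintypeEmbedding f (f ⟨m, by omega⟩)) = f ⟨m, by omega⟩ :=
            (ρ.viaFintypeEmbedding f).symm_apply_apply _
          rw [Perm.mul_apply, Perm.mul_apply, h3, hf, csucc, hf]
        rw [← h2 σ, ← h2 τ, ih', h]
    apply via_inj f
    intro i
    exact key i.1 i.2

/-! ### Order three -/

theorem bd_three {L : Subgroup (Perm α)} (hJ : Six L) (hx : orderOf x = 3) :
    4 * (Bd L x).card ≤ (Ev α).card := by
  classical
  have hx1 : x ≠ 1 := by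
    rintro rfl
    rw [orderOf_one] at hx
    omega
  by_cases h6 : x.support.card < 6
  · rw [Bd_empty hJ hx1 h6]
    omega
  have hr := Nat.prime_three
  have hx3 : ∀ q, x (x (x q)) = q := by
    intro q
    have := pow_orderOf_eq_one x
    rw [hx] at this
    have h := congrArg (fun w : Perm α => w q) this
    exact h
  obtain ⟨a, ha⟩ : ∃ a, a ∈ x.support := Finset.card_pos.1 (by omega)
  obtain ⟨b, hb, hbn⟩ : ∃ b ∈ x.support, b ∉ ({a, x a, x (x a)} : Finset α) :=
    Finset.exists_mem_notMem_of_card_lt_card (lt_of_le_of_lt (Finset.card_le_three) (by omega))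
  rw [Finset.mem_insert, Finset.mem_insert, Finset.mem_singleton, not_or, not_or] at hbn
  rw [Perm.mem_support] at ha hb
  obtain ⟨h1, h2, h3⟩ := hbn
  -- distinctness
  have d12 : x a ≠ a := ha
  have d23 : x (x a) ≠ x a := fun h => ha (x.injective h)
  have d13 : x (x a) ≠ a := by
    intro h
    have := hx3 a
    rw [h] at this
    exact ha this
  have e12 : x b ≠ b := hb
  have e23 : x (x b) ≠ x b := fun h => hb (x.injective h)
  have e13 : x (x b) ≠ b := by
    intro h
    have := hx3 b
    rw [h] at this
    exact hb this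
  have g1 : x b ≠ x a := fun h => h1 (x.injective h)
  have g2 : x b ≠ x (x a) := fun h => h2 (x.injective h)
  have g3 : x b ≠ a := fun h => h3 (by
    have h' : x (x b) = x a := by rw [h]
    have h'' : x (x (x b)) = x (x a) := by rw [h']
    rwa [hx3] at h'')
  have k1 : x (x b) ≠ x (x a) := fun h => g1 (x.injective h)
  have k2 : x (x b) ≠ a := fun h => h2 (by
    have h' : x (x (x b)) = x a := by rw [h]
    rwa [hx3] at h')
  have k3 : x (x b) ≠ x a := fun h => g3 (x.injective h)
  -- the odd permutation commuting with `x`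
  let o : Perm α := swap a b * swap (x a) (x b) * swap (x (x a)) (x (x b))
  have ho : o ∉ alternatingGroup α := by
    rw [mem_alternatingGroup]
    show sign (swap a b * swap (x a) (x b) * swap (x (x a)) (x (x b))) ≠ 1
    rw [Perm.sign_mul, Perm.sign_mul, sign_swap (Ne.symm h1), sign_swap (Ne.symm g1), sign_swap (Ne.symm k1)]
    decide
  have hox : o * x = x * o := by
    have hc : ∀ u v : α, x * swap u v = swap (x u) (x v) * x := fun u v => (Equiv.mul_swap_eq_swap_mul x u v)
    show swap a b * swap (x a) (x b) * swap (x (x a)) (x (x b)) * x =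
      x * (swap a b * swap (x a) (x b) * swap (x (x a)) (x (x b)))
    rw [← mul_assoc, ← mul_assoc, hc, mul_assoc (swap (x a) (x b)) x, hc, ← mul_assoc, mul_assoc _ x, hc, hx3, hx3,
      ← mul_assoc]
    congr 1
    have hcomm : swap a b * (swap (x a) (x b) * swap (x (x a)) (x (x b))) =
        swap (x a) (x b) * swap (x (x a)) (x (x b)) * swap a b := by
      have hd : Disjoint (swap a b) (swap (x a) (x b)) := by
        rw [Perm.disjoint_iff_eq_or_eq]
        intro q
        by_cases hq : q = x a ∨ q = x b
        · left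
          rcases hq with rfl | rfl
          · exact swap_apply_of_ne_of_ne d12 (Ne.symm h2)
          · exact swap_apply_of_ne_of_ne g3 e12
        · right
          rw [not_or] at hq
          exact swap_apply_of_ne_of_ne hq.1 hq.2
      have hd' : Disjoint (swap a b) (swap (x (x a)) (x (x b))) := by
        rw [Perm.disjoint_iff_eq_or_eq]
        intro q
        by_cases hq : q = x (x a) ∨ q = x (x b)
        · left
          rcases hq with rfl | rfl
          · exact swap_apply_of_ne_of_ne d13 (Ne.symm h3)
          · exact swap_apply_of_ne_of_ne k2 e13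
        · right
          rw [not_or] at hq
          exact swap_apply_of_ne_of_ne hq.1 hq.2
      exact (hd.mul_right hd').commute.eq
    rw [mul_assoc, hcomm]
  -- the three points `a, x a, b`
  let f : Fin 3 ↪ α := ⟨![a, x a, b], by
    intro i j h
    fin_cases i <;> fin_cases j
    · rfl
    · exact absurd h (Ne.symm d12)
    · exact absurd h (Ne.symm h1)
    · exact absurd h d12
    · rfl
    · exact absurd h (Ne.symm h2)
    · exact absurd h h1
    · exact absurd h h2
    · rfl⟩
  have f0 : f 0 = a := rfl
  have f1 : f 1 = x a := rfl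
  have f2 : f 2 = b := rfl
  let E : Finset α := Finset.univ.image f
  have hmemE : ∀ q, q ∈ E ↔ q ∈ Set.range f := by
    intro q
    simp [E]
  have hcE : x (x a) ∉ Set.range f := by
    rintro ⟨i, hi⟩
    fin_cases i
    · exact d13 hi.symm
    · exact d23 hi.symm
    · exact h3 hi
  have hbE : x (x b) ∉ Set.range f := by
    rintro ⟨i, hi⟩
    fin_cases i
    · exact k2 hi.symm
    · exact k3 hi.symm
    · exact e13 hi.symm
  have h := fam_odd (L := L) hJ x E (by
    have : E ∪ E.image ⇑x⁻¹ ⊆ insert (x (x a)) (insert (x (x b)) E) := by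
      intro q hq
      rw [Finset.mem_union] at hq
      rw [Finset.mem_insert, Finset.mem_insert]
      rcases hq with hq | hq
      · exact Or.inr (Or.inr hq)
      · obtain ⟨q', hq', rfl⟩ := Finset.mem_image.1 hq
        obtain ⟨i, hi⟩ := (hmemE q').1 hq'
        fin_cases i
        · left
          rw [Perm.inv_eq_iff_eq, hx3]
          exact hi.symm
        · right; right
          rw [hmemE]
          refine ⟨0, ?_⟩
          rw [eq_comm, Perm.inv_eq_iff_eq, f0]
          exact hi.symm
        · right; left
          rw [Perm.inv_eq_iff_eq, hx3]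
          exact hi.symm
    refine (Finset.card_le_card this).trans ((Finset.card_insert_le _ _).trans ?_)
    have h7 := Finset.card_insert_le (x (x b)) E
    have : E.card ≤ 3 := Finset.card_image_le.trans (by simp)
    omega) (I := (Finset.univ : Finset (Perm (Fin 3))))
    (fun σ => σ.viaFintypeEmbedding f) o ho hox ?_ ?_
  · have hc : (Finset.univ : Finset (Perm (Fin 3))).card = 6 := by decide
    rw [hc] at h
    omega
  · intro σ _ q hq
    exact Perm.viaFintypeEmbedding_apply_notMem_range _ _ (fun h => hq ((hmemE q).2 h))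
  · intro σ _ τ _ h
    have hev : ∀ ρ : Perm (Fin 3), ∀ q, q ∉ Set.range f →
        (ρ.viaFintypeEmbedding f * x * (ρ.viaFintypeEmbedding f)⁻¹) q = ρ.viaFintypeEmbedding f (x q) := by
      intro ρ q hq
      have h3 : (ρ.viaFintypeEmbedding f)⁻¹ q = q :=
        Perm.inv_eq_iff_eq.2 (Perm.viaFintypeEmbedding_apply_notMem_range _ _ hq).symm
      rw [Perm.mul_apply, Perm.mul_apply, h3]
    have hev' : ∀ ρ : Perm (Fin 3), ∀ q,
        (ρ.viaFintypeEmbedding f * x * (ρ.viaFintypeEmbedding f)⁻¹) (ρ.viaFintypeEmbedding f q) =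
          ρ.viaFintypeEmbedding f (x q) := by
      intro ρ q
      have h3 : (ρ.viaFintypeEmbedding f)⁻¹ (ρ.viaFintypeEmbedding f q) = q :=
        (ρ.viaFintypeEmbedding f).symm_apply_apply _
      rw [Perm.mul_apply, Perm.mul_apply, h3]
    have j0 : σ.viaFintypeEmbedding f (f 0) = τ.viaFintypeEmbedding f (f 0) := by
      have e1 := hev σ _ hcE
      have e2 := hev τ _ hcE
      rw [hx3] at e1 e2
      rw [f0, ← e1, ← e2, h]
    have j2 : σ.viaFintypeEmbedding f (f 2) = τ.viaFintypeEmbedding f (f 2) := by
      have e1 := hev σ _ hbE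
      have e2 := hev τ _ hbE
      rw [hx3] at e1 e2
      rw [f2, ← e1, ← e2, h]
    have j1 : σ.viaFintypeEmbedding f (f 1) = τ.viaFintypeEmbedding f (f 1) := by
      have e1 := hev' σ (f 0)
      have e2 := hev' τ (f 0)
      rw [f0] at e1 e2
      rw [f1, ← e1, ← e2, ← f0, j0, h]
    apply via_inj f
    intro i
    fin_cases i
    · exact j0
    · exact j1
    · exact j2

end Cfsg.Agent.H711.RCA
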