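import Mathlib
import Cfsg.Agent.H711.RC.FamB

/-!
# S3509, `T = A_n`: elements of prime order at least 11
-/

set_option autoImplicit false

namespace Cfsg.Agent.H711.RCA

open Equiv Equiv.Perm

variable {α : Type*} [Fintype α] [DecidableEq α] {x : Perm α} {r : ℕ} {p : α}

/-- the list `x p, …, x^j p` -/
def lst (x : Perm α) (p : α) (j : ℕ) : List α := List.ofFn (fun m : Fin j => (x ^ ((m : ℕ) + 1)) p)

omit [Fintype α] [DecidableEq α] in
theorem lst_length (j : ℕ) : (lst x p j).length = j := by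
  simp [lst]

omit [Fintype α] [DecidableEq α] in
theorem lst_get (j m : ℕ) (hm : m < (lst x p j).length) : (lst x p j)[m] = (x ^ (m + 1)) p := by
  simp [lst]

omit [Fintype α] [DecidableEq α] in
theorem lst_nodup (hr : r.Prime) (hx : orderOf x = r) (hp : x p ≠ p) {j : ℕ} (hj : j < r) :
    (lst x p j).Nodup := by
  rw [lst, List.nodup_ofFn]
  intro m k h
  have := cinj hr hx hp (m := (m : ℕ) + 1) (k := (k : ℕ) + 1) (by omega) (by omega) h
  exact Fin.ext (by omega)

omit [Fintype α] [DecidableEq α] in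
theorem mem_lst {j : ℕ} {q : α} : q ∈ lst x p j ↔ ∃ m, 1 ≤ m ∧ m ≤ j ∧ (x ^ m) p = q := by
  rw [lst, List.mem_ofFn]
  constructor
  · rintro ⟨m, hm⟩
    exact ⟨m + 1, by omega, by omega, hm⟩
  · rintro ⟨m, h1, h2, h3⟩
    refine ⟨⟨m - 1, by omega⟩, ?_⟩
    rw [← h3]
    simp only
    congr 2
    omega

/-- the rotation of `x p, …, x^j p` by `i` -/
def rot (x : Perm α) (p : α) (i j : ℕ) : Perm α := (lst x p j).formPerm ^ i

omit [Fintype α] in
theorem rot_lo (hr : r.Prime) (hx : orderOf x = r) (hp : x p ≠ p) {i j m : ℕ} (hj : j < r) (h1 : 1 ≤ m)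
    (h2 : m + i ≤ j) : rot x p i j ((x ^ m) p) = (x ^ (m + i)) p := by
  have hl := lst_length (x := x) (p := p) j
  have h := List.formPerm_pow_apply_getElem (lst x p j) (lst_nodup hr hx hp hj) i (m - 1) (by rw [hl]; omega)
  rw [lst_get, lst_get, Nat.sub_add_cancel h1, hl, Nat.mod_eq_of_lt (by omega)] at h
  rw [rot, h]
  congr 2
  omega

omit [Fintype α] in
theorem rot_hi (hr : r.Prime) (hx : orderOf x = r) (hp : x p ≠ p) {i j m : ℕ} (hj : j < r) (h1 : 1 ≤ m)
    (h3 : m ≤ j) (h4 : i < j) (h2 : j < m + i) : rot x p i j ((x ^ m) p) = (x ^ (m + i - j)) p := by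
  have hl := lst_length (x := x) (p := p) j
  have h := List.formPerm_pow_apply_getElem (lst x p j) (lst_nodup hr hx hp hj) i (m - 1) (by rw [hl]; omega)
  have hmod : (m - 1 + i) % j = m + i - j - 1 := by
    have : m - 1 + i = (m + i - j - 1) + j := by omega
    rw [this, Nat.add_mod_right, Nat.mod_eq_of_lt (by omega)]
  rw [lst_get, lst_get, Nat.sub_add_cancel h1, hl, hmod] at h
  rw [rot, h]
  congr 2
  omega

omit [Fintype α] in
theorem rot_fix {i j : ℕ} {q : α} (hq : q ∉ lst x p j) : rot x p i j q = q := by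
  have h : (lst x p j).formPerm q = q := List.formPerm_apply_of_notMem hq
  rw [rot]
  induction i with
  | zero => rfl
  | succ i ih => rw [pow_succ, Perm.mul_apply, h, ih]

theorem rot_even (hr : r.Prime) (hx : orderOf x = r) (hp : x p ≠ p) {i j : ℕ} (hj : j < r) (hodd : Odd j)
    (h3 : 3 ≤ j) : rot x p i j ∈ alternatingGroup α := by
  rw [rot]
  apply Subgroup.pow_mem
  rw [mem_alternatingGroup]
  have hn := lst_nodup hr hx hp hj
  have hl := lst_length (x := x) (p := p) j
  have hc : (lst x p j).formPerm.IsCycle := List.isCycle_formPerm hn (by rw [hl]; omega)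
  rw [hc.sign, List.support_formPerm_of_nodup _ hn (by
    intro y hy
    have := congrArg List.length hy
    rw [hl] at this
    simp at this
    omega), List.toFinset_card_of_nodup hn, hl, hodd.neg_one_pow]
  rfl

/-- the conjugate `y = t x t⁻¹`, `t` the rotation -/
def yy (x : Perm α) (p : α) (i j : ℕ) : Perm α := rot x p i j * x * (rot x p i j)⁻¹

omit [Fintype α] in
theorem yy_eval {i j : ℕ} {q q' : α} (h : rot x p i j q = q') : yy x p i j q' = rot x p i j (x q) := by
  have h3 : (rot x p i j)⁻¹ q' = q := Perm.inv_eq_iff_eq.2 h.symm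
  rw [yy, Perm.mul_apply, Perm.mul_apply, h3]

omit [Fintype α] [DecidableEq α] in
theorem zero_notMem (hr : r.Prime) (hx : orderOf x = r) (hp : x p ≠ p) {j : ℕ} (hj : j < r) :
    p ∉ lst x p j := by
  rw [mem_lst]
  rintro ⟨m, h1, h2, h3⟩
  exact pow_ne hr hx hp (by omega) (by omega) h3

omit [Fintype α] in
theorem yy_zero (hr : r.Prime) (hx : orderOf x = r) (hp : x p ≠ p) {i j : ℕ} (hj : j < r)
    (hij : i < j) : yy x p i j p = (x ^ (1 + i)) p := by
  rw [yy_eval (rot_fix (zero_notMem hr hx hp hj))]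
  have : x p = (x ^ 1) p := by rw [pow_one]
  rw [this, rot_lo hr hx hp hj le_rfl (by omega)]

omit [Fintype α] in
theorem yy_j (hr : r.Prime) (hx : orderOf x = r) (hp : x p ≠ p) {i j : ℕ} (hj : j < r) (hi : 1 ≤ i)
    (hij : i < j) : yy x p i j ((x ^ j) p) = x p := by
  have h1 : rot x p i j ((x ^ (j - i)) p) = (x ^ j) p := by
    rw [rot_lo hr hx hp hj (by omega) (by omega)]
    congr 2
    omega
  rw [yy_eval h1, csucc, rot_hi hr hx hp hj (by omega) (by omega) hij (by omega)]
  have : j - i + 1 + i - j = 1 := by omega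
  rw [this, pow_one]

omit [Fintype α] in
theorem yy_other (hr : r.Prime) (hx : orderOf x = r) (hp : x p ≠ p) {i j : ℕ} (hj : j < r) (_hi : 1 ≤ i)
    (hij : i < j) {q : α} (h0 : q ≠ p) (hqi : q ≠ (x ^ i) p) (hqj : q ≠ (x ^ j) p) : yy x p i j q = x q := by
  by_cases hq : q ∈ lst x p j
  · obtain ⟨m, h1, h2, rfl⟩ := mem_lst.1 hq
    have hmi : m ≠ i := fun h => hqi (by rw [h])
    have hmj : m ≠ j := fun h => hqj (by rw [h])
    rcases lt_or_gt_of_ne hmi with h3 | h3
    · have e1 : rot x p i j ((x ^ (m + j - i)) p) = (x ^ m) p := by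
        rw [rot_hi hr hx hp hj (by omega) (by omega) hij (by omega)]
        congr 2
        omega
      rw [yy_eval e1, csucc, rot_hi hr hx hp hj (by omega) (by omega) hij (by omega), csucc]
      congr 2
      omega
    · have e1 : rot x p i j ((x ^ (m - i)) p) = (x ^ m) p := by
        rw [rot_lo hr hx hp hj (by omega) (by omega)]
        congr 2
        omega
      rw [yy_eval e1, csucc, rot_lo hr hx hp hj (by omega) (by omega), csucc]
      congr 2
      omega
  · rw [yy_eval (rot_fix hq)]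
    apply rot_fix
    intro h
    obtain ⟨m, h1, h2, h3⟩ := mem_lst.1 h
    have h4 : q = (x ^ (m - 1)) p := by
      apply x.injective
      rw [csucc, Nat.sub_add_cancel h1, h3]
    rcases Nat.eq_zero_or_pos (m - 1) with h5 | h5
    · rw [h5, pow_zero] at h4
      exact h0 h4
    · apply hq
      rw [mem_lst]
      exact ⟨m - 1, by omega, by omega, h4.symm⟩

theorem bd_star {L : Subgroup (Perm α)} (hJ : Six L) (hr : r.Prime) (hx : orderOf x = r) {m : ℕ} (hm : r = 2 * m + 1) :
    (m * (m - 1)) * (Bd L x).card ≤ (Ev α).card := by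
  classical
  have hx1 : x ≠ 1 := by
    rintro rfl
    rw [orderOf_one] at hx
    exact hr.one_lt.ne hx
  obtain ⟨p, hp⟩ : ∃ p, x p ≠ p := by
    by_contra h
    push Not at h
    exact hx1 (Perm.ext h)
  let I : Finset (Σ _ : ℕ, ℕ) := (Finset.range (m - 1)).sigma (fun k => Finset.range (2 * k + 2))
  have hI : I.card = m * (m - 1) := by
    rw [Finset.card_sigma]
    simp only [Finset.card_range]
    have : ∀ M : ℕ, ∑ k ∈ Finset.range M, (2 * k + 2) = (M + 1) * M := by
      intro M
      induction M with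
      | zero => simp
      | succ M ih => rw [Finset.sum_range_succ, ih]; ring
    rw [this]
    rcases Nat.eq_zero_or_pos m with h | h
    · rw [h]
    · rw [Nat.sub_add_cancel h]
  rw [← hI]
  apply clq L x I (fun a => rot x p (a.2 + 1) (2 * a.1 + 3))
  · intro a ha
    rw [Finset.mem_sigma, Finset.mem_range, Finset.mem_range] at ha
    exact rot_even hr hx hp (by omega) ⟨a.1 + 1, by ring⟩ (by omega)
  · intro a ha b hb hab s _ h1 h2
    rw [Finset.mem_sigma, Finset.mem_range, Finset.mem_range] at ha hb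
    have hne : yy x p (a.2 + 1) (2 * a.1 + 3) ≠ yy x p (b.2 + 1) (2 * b.1 + 3) := by
      intro h
      apply hab
      have e1 := yy_zero hr hx hp (i := a.2 + 1) (j := 2 * a.1 + 3) (by omega) (by omega)
      have e2 := yy_zero hr hx hp (i := b.2 + 1) (j := 2 * b.1 + 3) (by omega) (by omega)
      rw [h, e2] at e1
      have h3 := cinj hr hx hp (by omega) (by omega) e1
      have e3 := yy_j hr hx hp (i := a.2 + 1) (j := 2 * a.1 + 3) (by omega) (by omega) (by omega)
      have e4 := yy_j hr hx hp (i := b.2 + 1) (j := 2 * b.1 + 3) (by omega) (by omega) (by omega)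
      rw [← e4, h] at e3
      have h4 := cinj hr hx hp (by omega) (by omega) ((yy x p (b.2 + 1) (2 * b.1 + 3)).injective e3)
      obtain ⟨a1, a2⟩ := a
      obtain ⟨b1, b2⟩ := b
      simp only at h3 h4
      have h5 : a1 = b1 := by omega
      have h6 : a2 = b2 := by omega
      rw [h5, h6]
    refine diff_five hJ h1 h2 hne ({p, (x ^ (a.2 + 1)) p, (x ^ (2 * a.1 + 3)) p, (x ^ (b.2 + 1)) p,
      (x ^ (2 * b.1 + 3)) p} : Finset α) Finset.card_le_five ?_
    intro q hq
    simp only [Finset.mem_insert, Finset.mem_singleton, not_or] at hq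
    have e1 := yy_other hr hx hp (i := a.2 + 1) (j := 2 * a.1 + 3) (by omega) (by omega) (by omega)
      hq.1 hq.2.1 hq.2.2.1
    have e2 := yy_other hr hx hp (i := b.2 + 1) (j := 2 * b.1 + 3) (by omega) (by omega) (by omega)
      hq.1 hq.2.2.2.1 hq.2.2.2.2
    show yy x p (a.2 + 1) (2 * a.1 + 3) q = yy x p (b.2 + 1) (2 * b.1 + 3) q
    rw [e1, e2]

/-- all bounds -/
theorem bound {L : Subgroup (Perm α)} (hJ : Six L) (x : Perm α) (r : ℕ) (hr : r.Prime) (hx : orderOf x = r) :
    ((Bd L x).card : ℚ) ≤ cr r * (Ev α).card := by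
  unfold cr
  split_ifs with h2 h3 h5 h7
  · subst h2
    have h : ((3 * (Bd L x).card : ℕ) : ℚ) ≤ (Ev α).card := by exact_mod_cast bd_two hJ hx
    push_cast at h
    linarith
  · subst h3
    have h : ((4 * (Bd L x).card : ℕ) : ℚ) ≤ (Ev α).card := by exact_mod_cast bd_three hJ hx
    push_cast at h
    linarith
  · subst h5
    have h : ((12 * (Bd L x).card : ℕ) : ℚ) ≤ (Ev α).card := by exact_mod_cast bd_five hJ hr hx (by omega)
    push_cast at h
    linarith
  · subst h7
    have h : ((12 * (Bd L x).card : ℕ) : ℚ) ≤ (Ev α).card := by exact_mod_cast bd_five hJ hr hx (by omega)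
    push_cast at h
    linarith
  · obtain ⟨m, hm⟩ := hr.odd_of_ne_two h2
    have hm2 : 2 ≤ m := by
      have := hr.two_le
      omega
    have h : (((m * (m - 1)) * (Bd L x).card : ℕ) : ℚ) ≤ (Ev α).card := by exact_mod_cast bd_star hJ hr hx hm
    push_cast [Nat.cast_sub (show 1 ≤ m by omega)] at h
    have hm0 : (0 : ℚ) < m := by exact_mod_cast (by omega : 0 < m)
    have hm1 : (0 : ℚ) < (m : ℚ) - 1 := by
      have : (1 : ℚ) < m := by exact_mod_cast (by omega : 1 < m)
      linarith
    have e : (4 : ℚ) / (((r : ℚ) - 1) * (r - 3)) = 1 / (m * (m - 1)) := by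
      rw [hm]
      push_cast
      have e1 : (2 * (m : ℚ) + 1 - 1) = 2 * m := by ring
      have e2 : (2 * (m : ℚ) + 1 - 3) = 2 * (m - 1) := by ring
      rw [e1, e2]
      field_simp
      norm_num
    rw [e, one_div, inv_mul_eq_div, le_div_iff₀ (by positivity)]
    linarith

/-- **A subgroup whose nontrivial elements move at least six points.** -/
theorem reg_of_six {L : Subgroup (Perm α)} (hJ : Six L) (g : Perm α) :
    ∃ s ∈ alternatingGroup α, ∀ z ∈ Subgroup.zpowers g, s * z * s⁻¹ ∈ L → z = 1 :=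
  reg_of_bounds L g (fun x r hr hx => bound hJ x r hr hx)

end Cfsg.Agent.H711.RCA
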