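import Cfsg.Agent.H237.AltTwo
import Cfsg.Agent.H901.MinDeg
import Cfsg.Agent.PermutationGroups.PSTransOne
import Cfsg.Agent.PermutationGroups.OrderBound.Disting
import Cfsg.Agent.H711.RC.FamC

/-!
# S3509, `T = A_n`: primitive groups of degree at least 10 have minimal degree at least six
-/

set_option autoImplicit false
set_option linter.unusedVariables false
set_option linter.unusedSectionVars false
set_option linter.style.haveILetI false

namespace Cfsg.Agent.H711.RCA

open Equiv Equiv.Perm MulAction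

variable {α : Type*} [Fintype α] [DecidableEq α]

/-- no short elements of prime order three and five -/
structure Sh (L : Subgroup (Perm α)) : Prop where
  three : ∀ z ∈ L, ¬ z.IsThreeCycle
  five : ∀ z ∈ L, orderOf z = 5 → 10 ≤ z.support.card

section
variable {L : Subgroup (Perm α)}

omit [Fintype α] in
theorem conj_mem' {g : Perm α} (hg : g ∈ L) {a b c d : α} (h : swap a b * swap c d ∈ L) :
    swap (g a) (g b) * swap (g c) (g d) ∈ L := by
  rw [← Cfsg.Agent.H237.AltCore.swap_conj]
  exact L.mul_mem (L.mul_mem hg h) (L.inv_mem hg)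

omit [Fintype α] in
/-- disjoint transpositions commute -/
theorem dcomm {a b c d : α} (hac : a ≠ c) (had : a ≠ d) (hbc : b ≠ c) (hbd : b ≠ d) :
    swap a b * swap c d = swap c d * swap a b := by
  have hd : Disjoint (swap a b) (swap c d) := by
    rw [Perm.disjoint_iff_eq_or_eq]
    intro q
    by_cases hq : q = c ∨ q = d
    · left
      rcases hq with rfl | rfl
      · exact swap_apply_of_ne_of_ne (Ne.symm hac) (Ne.symm hbc)
      · exact swap_apply_of_ne_of_ne (Ne.symm had) (Ne.symm hbd)
    · right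
      rw [not_or] at hq
      exact swap_apply_of_ne_of_ne hq.1 hq.2
  exact hd.commute.eq

/-- `{a, b}` is an edge -/
def Edge (L : Subgroup (Perm α)) (a b : α) : Prop :=
  a ≠ b ∧ ∃ c d, c ≠ d ∧ a ≠ c ∧ a ≠ d ∧ b ≠ c ∧ b ≠ d ∧ swap a b * swap c d ∈ L

/-- four points with all double transpositions -/
def QuadT (L : Subgroup (Perm α)) (a b c d : α) : Prop :=
  a ≠ b ∧ a ≠ c ∧ a ≠ d ∧ b ≠ c ∧ b ≠ d ∧ c ≠ d ∧
    swap a b * swap c d ∈ L ∧ swap a c * swap b d ∈ L ∧ swap a d * swap b c ∈ L

omit [Fintype α] in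
theorem Edge.symm {a b : α} (h : Edge L a b) : Edge L b a := by
  obtain ⟨hab, c, d, hcd, h1, h2, h3, h4, h5⟩ := h
  exact ⟨hab.symm, c, d, hcd, h3, h4, h1, h2, by rwa [swap_comm b a]⟩

omit [Fintype α] in
theorem Edge.image {g : Perm α} (hg : g ∈ L) {a b : α} (h : Edge L a b) : Edge L (g a) (g b) := by
  obtain ⟨hab, c, d, hcd, h1, h2, h3, h4, h5⟩ := h
  exact ⟨fun e => hab (g.injective e), g c, g d, fun e => hcd (g.injective e), fun e => h1 (g.injective e),
    fun e => h2 (g.injective e), fun e => h3 (g.injective e), fun e => h4 (g.injective e), conj_mem' hg h5⟩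

omit [Fintype α] in
/-- the product of `(ab)(cd)` and `(ac)(bd)` is `(ad)(bc)` -/
theorem prod_quad {a b c d : α} (hab : a ≠ b) (hac : a ≠ c) (had : a ≠ d) (hbc : b ≠ c) (hbd : b ≠ d)
    (hcd : c ≠ d) : (swap a b * swap c d) * (swap a c * swap b d) = swap a d * swap b c := by
  ext q
  by_cases ha : q = a
  · rw [ha, Perm.mul_apply, Perm.mul_apply, Perm.mul_apply, Perm.mul_apply, swap_apply_of_ne_of_ne hab had,
      swap_apply_left, swap_apply_left, swap_apply_of_ne_of_ne (Ne.symm had) (Ne.symm hbd),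
      swap_apply_of_ne_of_ne hab hac, swap_apply_left]
  by_cases hb : q = b
  · rw [hb, Perm.mul_apply, Perm.mul_apply, Perm.mul_apply, Perm.mul_apply, swap_apply_left,
      swap_apply_of_ne_of_ne (Ne.symm had) (Ne.symm hcd), swap_apply_right,
      swap_apply_of_ne_of_ne (Ne.symm hac) (Ne.symm hbc), swap_apply_left,
      swap_apply_of_ne_of_ne (Ne.symm hac) hcd]
  by_cases hc : q = c
  · rw [hc, Perm.mul_apply, Perm.mul_apply, Perm.mul_apply, Perm.mul_apply,
      swap_apply_of_ne_of_ne (Ne.symm hbc) hcd, swap_apply_right, swap_apply_of_ne_of_ne hac had, swap_apply_left,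
      swap_apply_right, swap_apply_of_ne_of_ne (Ne.symm hab) hbd]
  by_cases hd : q = d
  · rw [hd, Perm.mul_apply, Perm.mul_apply, Perm.mul_apply, Perm.mul_apply, swap_apply_right,
      swap_apply_of_ne_of_ne (Ne.symm hab) hbc, swap_apply_of_ne_of_ne hbc hbd, swap_apply_right,
      swap_apply_of_ne_of_ne (Ne.symm hbd) (Ne.symm hcd), swap_apply_right]
  · rw [Perm.mul_apply, Perm.mul_apply, Perm.mul_apply, Perm.mul_apply, swap_apply_of_ne_of_ne hb hd,
      swap_apply_of_ne_of_ne ha hc, swap_apply_of_ne_of_ne hc hd, swap_apply_of_ne_of_ne ha hb,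
      swap_apply_of_ne_of_ne hb hc, swap_apply_of_ne_of_ne ha hd]

variable (hL : Sh L)
include hL

/-- `(ab)(cd)` and `(ae)(cd)` -/
theorem not_same {a b c d e : α} (hab : a ≠ b) (hae : a ≠ e) (hbe : b ≠ e) (hac : a ≠ c) (had : a ≠ d) (hbc : b ≠ c)
    (hbd : b ≠ d) (_hcd : c ≠ d) (h : swap a b * swap c d ∈ L)
    (h' : swap a e * swap c d ∈ L) : False := by
  have h1 := L.mul_mem h (L.inv_mem h')
  have h2 : swap a b * swap c d * (swap a e * swap c d)⁻¹ = swap a b * swap a e := by
    rw [mul_inv_rev, swap_inv, swap_inv, mul_assoc, ← mul_assoc (swap c d), swap_mul_self, one_mul]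
  rw [h2] at h1
  exact hL.three _ h1 (isThreeCycle_swap_mul_swap_same hab hae hbe)

/-- supports meeting in one point -/
theorem meet_one {a b c d e f g : α} (hab : a ≠ b) (hac : a ≠ c) (had : a ≠ d) (hbc : b ≠ c) (hbd : b ≠ d)
    (hcd : c ≠ d) (hae : a ≠ e) (_haf : a ≠ f) (_hag : a ≠ g) (hbe : b ≠ e) (hbf : b ≠ f) (hbg : b ≠ g)
    (hce : c ≠ e) (hcf : c ≠ f) (hcg : c ≠ g) (hde : d ≠ e) (hdf : d ≠ f) (hdg : d ≠ g)
    (h : swap a b * swap c d ∈ L) (h' : swap a e * swap f g ∈ L) : False := by
  have h1 := conj_mem' h' h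
  have e1 : (swap a e * swap f g) a = e := by
    rw [Perm.mul_apply, swap_apply_of_ne_of_ne _haf _hag, swap_apply_left]
  have e2 : (swap a e * swap f g) b = b := by
    rw [Perm.mul_apply, swap_apply_of_ne_of_ne hbf hbg, swap_apply_of_ne_of_ne (Ne.symm hab) hbe]
  have e3 : (swap a e * swap f g) c = c := by
    rw [Perm.mul_apply, swap_apply_of_ne_of_ne hcf hcg, swap_apply_of_ne_of_ne (Ne.symm hac) hce]
  have e4 : (swap a e * swap f g) d = d := by
    rw [Perm.mul_apply, swap_apply_of_ne_of_ne hdf hdg, swap_apply_of_ne_of_ne (Ne.symm had) hde]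
  rw [e1, e2, e3, e4] at h1
  refine not_same hL (a := b) (b := a) (c := c) (d := d) (e := e) (Ne.symm hab) hbe hae hbc hbd hac had hcd ?_ ?_
  · rwa [swap_comm b a]
  · rwa [swap_comm b e]

/-- `(ab)(cd)` and `(ae)(bc)`: the product is a 5-cycle -/
theorem meet_three {a b c d e : α} (hab : a ≠ b) (hac : a ≠ c) (had : a ≠ d) (hbc : b ≠ c) (hbd : b ≠ d)
    (hcd : c ≠ d) (hae : a ≠ e) (hbe : b ≠ e) (hce : c ≠ e) (hde : d ≠ e)
    (h : swap a b * swap c d ∈ L) (h' : swap a e * swap b c ∈ L) : False := by
  set w := (swap a b * swap c d) * (swap a e * swap b c) with hw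
  have hwL : w ∈ L := L.mul_mem h h'
  -- a → e, e → a → b, b → c → d, d → d → c, c → b → a
  have wa : w a = e := by
    rw [hw, Perm.mul_apply, Perm.mul_apply, Perm.mul_apply, swap_apply_of_ne_of_ne hab hac, swap_apply_left,
      swap_apply_of_ne_of_ne (Ne.symm hce) (Ne.symm hde), swap_apply_of_ne_of_ne (Ne.symm hae) (Ne.symm hbe)]
  have we : w e = b := by
    rw [hw, Perm.mul_apply, Perm.mul_apply, Perm.mul_apply, swap_apply_of_ne_of_ne (Ne.symm hbe) (Ne.symm hce),
      swap_apply_right, swap_apply_of_ne_of_ne hac had, swap_apply_left]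
  have wb : w b = d := by
    rw [hw, Perm.mul_apply, Perm.mul_apply, Perm.mul_apply, swap_apply_left,
      swap_apply_of_ne_of_ne (Ne.symm hac) hce, swap_apply_left, swap_apply_of_ne_of_ne (Ne.symm had) (Ne.symm hbd)]
  have wd : w d = c := by
    rw [hw, Perm.mul_apply, Perm.mul_apply, Perm.mul_apply, swap_apply_of_ne_of_ne (Ne.symm hbd) (Ne.symm hcd),
      swap_apply_of_ne_of_ne (Ne.symm had) hde, swap_apply_right, swap_apply_of_ne_of_ne (Ne.symm hac) (Ne.symm hbc)]
  have wc : w c = a := by
    rw [hw, Perm.mul_apply, Perm.mul_apply, Perm.mul_apply, swap_apply_right,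
      swap_apply_of_ne_of_ne (Ne.symm hab) hbe, swap_apply_of_ne_of_ne hbc hbd, swap_apply_right]
  have wq : ∀ q, q ∉ ({a, b, c, d, e} : Finset α) → w q = q := by
    intro q hq
    simp only [Finset.mem_insert, Finset.mem_singleton, not_or] at hq
    rw [hw, Perm.mul_apply, Perm.mul_apply, Perm.mul_apply, swap_apply_of_ne_of_ne hq.2.1 hq.2.2.1,
      swap_apply_of_ne_of_ne hq.1 hq.2.2.2.2, swap_apply_of_ne_of_ne hq.2.2.1 hq.2.2.2.1,
      swap_apply_of_ne_of_ne hq.1 hq.2.1]
  have h5 : w ^ 5 = 1 := by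
    ext q
    have : (w ^ 5) q = w (w (w (w (w q)))) := rfl
    rw [this]
    by_cases hq : q ∈ ({a, b, c, d, e} : Finset α)
    · simp only [Finset.mem_insert, Finset.mem_singleton] at hq
      rcases hq with rfl | rfl | rfl | rfl | rfl
      · rw [wa, we, wb, wd, wc]; rfl
      · rw [wb, wd, wc, wa, we]; rfl
      · rw [wc, wa, we, wb, wd]; rfl
      · rw [wd, wc, wa, we, wb]; rfl
      · rw [we, wb, wd, wc, wa]; rfl
    · rw [wq q hq, wq q hq, wq q hq, wq q hq, wq q hq]; rfl
  have h1 : w ≠ 1 := by
    intro h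
    rw [h] at wa
    exact hae wa
  haveI : Fact (Nat.Prime 5) := ⟨by norm_num⟩
  have ho : orderOf w = 5 := orderOf_eq_prime h5 h1
  have h10 := hL.five w hwL ho
  have hsub : w.support ⊆ {a, b, c, d, e} := by
    intro q hq
    by_contra h
    exact Perm.mem_support.1 hq (wq q h)
  have := (Finset.card_le_card hsub).trans Finset.card_le_five
  omega

/-- the two double transpositions `(ab)(cd)`, `(ac)(bd)` -/
theorem quad_two {a b c d : α} (hab : a ≠ b) (hac : a ≠ c) (had : a ≠ d) (hbc : b ≠ c) (hbd : b ≠ d)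
    (hcd : c ≠ d) (h : swap a b * swap c d ∈ L) (h' : swap a c * swap b d ∈ L) : QuadT L a b c d :=
  ⟨hab, hac, had, hbc, hbd, hcd, h, h', by
    rw [← prod_quad hab hac had hbc hbd hcd]
    exact L.mul_mem h h'⟩

/-- `(ab)(cd)` and `(ac)(fg)` -/
theorem edge_across {a b c d f g : α} (hab : a ≠ b) (hac : a ≠ c) (had : a ≠ d) (hbc : b ≠ c) (hbd : b ≠ d)
    (hcd : c ≠ d) (haf : a ≠ f) (hag : a ≠ g) (hcf : c ≠ f) (hcg : c ≠ g) (hfg : f ≠ g)
    (h : swap a b * swap c d ∈ L) (h' : swap a c * swap f g ∈ L) : QuadT L a b c d := by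
  by_cases hbf : b = f
  · subst hbf
    by_cases hdg : d = g
    · subst hdg
      exact quad_two hL hab hac had hbc hbd hcd h h'
    · -- `(ac)(bg)` and `(ab)(cd)`: three common points `a, b, c`
      exfalso
      -- rename: `x' = (ac)(bg)`, `y' = (...)`; use `(g b)(a c)` as `(ab)(cd)`-shape with `(b a)(c d)`
      -- `swap b g * swap a c`, `swap c d * swap a b`
      have e1 : swap c d * swap a b ∈ L := by
        rw [← dcomm hac had hbc hbd]
        exact h
      -- points: c ~ a, a ~ b, b ~ g, c ~ d : path `d - c`, `c = a`, `a - b`, `b = g`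
      -- meet_three with (a,b,c,d,e) := (c, a, b, g, d): (c a)(b g) and (c d)(a b)
      refine meet_three hL (a := c) (b := a) (c := b) (d := g) (e := d) (Ne.symm hac) (Ne.symm hbc) hcg hab hag
        hfg hcd had hbd (Ne.symm hdg) ?_ e1
      rwa [swap_comm c a]
  by_cases hbg : b = g
  · subst hbg
    by_cases hdf : d = f
    · subst hdf
      rw [swap_comm d b] at h'
      exact quad_two hL hab hac had hbc hbd hcd h h'
    · exfalso
      have e1 : swap c d * swap a b ∈ L := by
        rw [← dcomm hac had hbc hbd]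
        exact h
      refine meet_three hL (a := c) (b := a) (c := b) (d := f) (e := d) (Ne.symm hac) (Ne.symm hbc) hcf hab haf
        (Ne.symm hfg) hcd had hbd (Ne.symm hdf) ?_ e1
      rwa [swap_comm c a, swap_comm b f]
  -- now `b ≠ f, g`
  by_cases hdf : d = f
  · subst hdf
    exfalso
    -- `(ac)(dg)`, `(ab)(cd)`: path: `b - a`, `a = c`, `c - d`, `d = g`
    refine meet_three hL (a := a) (b := c) (c := d) (d := g) (e := b) hac had hag hcd hcg hfg hab
      (Ne.symm hbc) (Ne.symm hbd) (Ne.symm hbg) h' h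
  by_cases hdg : d = g
  · subst hdg
    exfalso
    refine meet_three hL (a := a) (b := c) (c := d) (d := f) (e := b) hac had haf hcd hcf (Ne.symm hfg) hab
      (Ne.symm hbc) (Ne.symm hbd) (Ne.symm hbf) ?_ h
    rwa [swap_comm d f]
  -- disjoint: conjugate
  have h1 := conj_mem' h' h
  have e1 : (swap a c * swap f g) a = c := by
    rw [Perm.mul_apply, swap_apply_of_ne_of_ne haf hag, swap_apply_left]
  have e2 : (swap a c * swap f g) b = b := by
    rw [Perm.mul_apply, swap_apply_of_ne_of_ne hbf hbg, swap_apply_of_ne_of_ne (Ne.symm hab) hbc]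
  have e3 : (swap a c * swap f g) c = a := by
    rw [Perm.mul_apply, swap_apply_of_ne_of_ne hcf hcg, swap_apply_right]
  have e4 : (swap a c * swap f g) d = d := by
    rw [Perm.mul_apply, swap_apply_of_ne_of_ne hdf hdg, swap_apply_of_ne_of_ne (Ne.symm had) (Ne.symm hcd)]
  rw [e1, e2, e3, e4] at h1
  -- `(cb)(ad) ∈ L`
  refine ⟨hab, hac, had, hbc, hbd, hcd, h, ?_, ?_⟩
  · have h2 : (swap a b * swap c d) * (swap a d * swap b c) = swap a c * swap b d := by
      rw [swap_comm c d]
      exact prod_quad hab had hac hbd hbc (Ne.symm hcd)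
    rw [← h2]
    refine L.mul_mem h ?_
    have h3 : swap a d * swap b c = swap c b * swap a d := by
      rw [swap_comm c b]
      exact dcomm hab hac (Ne.symm hbd) (Ne.symm hcd)
    rw [h3]
    exact h1
  · have h3 : swap a d * swap b c = swap c b * swap a d := by
      rw [swap_comm c b]
      exact dcomm hab hac (Ne.symm hbd) (Ne.symm hcd)
    rw [h3]
    exact h1

/-- transitivity of the edge relation, one partner point in `{b, c, d}` -/
theorem trans_aux (nq : ∀ a b c d, ¬ QuadT L a b c d) {a b c d e f g : α} (hab : a ≠ b) (hac : a ≠ c) (had : a ≠ d)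
    (hbc : b ≠ c) (hbd : b ≠ d) (hcd : c ≠ d) (hae : a ≠ e) (hbe : b ≠ e) (hce : c ≠ e) (hde : d ≠ e)
    (haf : a ≠ f) (hag : a ≠ g) (hef : e ≠ f) (heg : e ≠ g) (hfg : f ≠ g)
    (h : swap a b * swap c d ∈ L) (h' : swap a e * swap f g ∈ L) (hf : f = b ∨ f = c ∨ f = d) : Edge L b e := by
  rcases hf with rfl | rfl | rfl
  · exfalso
    by_cases hgc : g = c
    · subst hgc
      exact meet_three hL hab hac had hbc hbd hcd hae hbe hce hde h h'
    by_cases hgd : g = d
    · subst hgd
      rw [swap_comm c g] at h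
      exact meet_three hL hab had hac hbd hbc (Ne.symm hcd) hae hbe hde hce h h'
    -- quad `{a, b, e, g}`
    have h1 := conj_mem' h' h
    have e1 : (swap a e * swap f g) a = e := by
      rw [Perm.mul_apply, swap_apply_of_ne_of_ne hab hag, swap_apply_left]
    have e2 : (swap a e * swap f g) f = g := by
      rw [Perm.mul_apply, swap_apply_left, swap_apply_of_ne_of_ne (Ne.symm hag) (Ne.symm heg)]
    have e3 : (swap a e * swap f g) c = c := by
      rw [Perm.mul_apply, swap_apply_of_ne_of_ne (Ne.symm hbc) (Ne.symm hgc),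
        swap_apply_of_ne_of_ne (Ne.symm hac) hce]
    have e4 : (swap a e * swap f g) d = d := by
      rw [Perm.mul_apply, swap_apply_of_ne_of_ne (Ne.symm hbd) (Ne.symm hgd),
        swap_apply_of_ne_of_ne (Ne.symm had) hde]
    rw [e1, e2, e3, e4] at h1
    have h2 := L.mul_mem h (L.inv_mem h1)
    have h3 : swap a f * swap c d * (swap e g * swap c d)⁻¹ = swap a f * swap e g := by
      rw [mul_inv_rev, swap_inv, swap_inv, mul_assoc, ← mul_assoc (swap c d), swap_mul_self, one_mul]
    rw [h3] at h2
    exact nq a f e g (quad_two hL hab hae hag hbe hfg heg h2 h')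
  · by_cases hgb : g = b
    · subst hgb
      exfalso
      rw [swap_comm f g] at h'
      exact meet_three hL hab hac had hbc hbd hcd hae hbe hce hde h h'
    by_cases hgd : g = d
    · subst hgd
      exact (not_same hL hab hae hbe hac had hbc hbd hcd h h').elim
    have h1 := conj_mem' h h'
    have e1 : (swap a b * swap f d) a = b := by
      rw [Perm.mul_apply, swap_apply_of_ne_of_ne hac had, swap_apply_left]
    have e2 : (swap a b * swap f d) e = e := by
      rw [Perm.mul_apply, swap_apply_of_ne_of_ne (Ne.symm hce) (Ne.symm hde),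
        swap_apply_of_ne_of_ne (Ne.symm hae) (Ne.symm hbe)]
    have e3 : (swap a b * swap f d) f = d := by
      rw [Perm.mul_apply, swap_apply_left, swap_apply_of_ne_of_ne (Ne.symm had) (Ne.symm hbd)]
    have e4 : (swap a b * swap f d) g = g := by
      rw [Perm.mul_apply, swap_apply_of_ne_of_ne (Ne.symm hfg) hgd, swap_apply_of_ne_of_ne (Ne.symm hag) hgb]
    rw [e1, e2, e3, e4] at h1
    exact ⟨hbe, d, g, Ne.symm hgd, hbd, Ne.symm hgb, Ne.symm hde, heg, h1⟩
  · by_cases hgb : g = b
    · subst hgb
      exfalso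
      rw [swap_comm c f] at h
      rw [swap_comm f g] at h'
      exact meet_three hL hab had hac hbd hbc (Ne.symm hcd) hae hbe hde hce h h'
    by_cases hgc : g = c
    · subst hgc
      rw [swap_comm f g] at h'
      exact (not_same hL hab hae hbe hac had hbc hbd hcd h h').elim
    have h1 := conj_mem' h h'
    have e1 : (swap a b * swap c f) a = b := by
      rw [Perm.mul_apply, swap_apply_of_ne_of_ne hac had, swap_apply_left]
    have e2 : (swap a b * swap c f) e = e := by
      rw [Perm.mul_apply, swap_apply_of_ne_of_ne (Ne.symm hce) (Ne.symm hde),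
        swap_apply_of_ne_of_ne (Ne.symm hae) (Ne.symm hbe)]
    have e3 : (swap a b * swap c f) f = c := by
      rw [Perm.mul_apply, swap_apply_right, swap_apply_of_ne_of_ne (Ne.symm hac) (Ne.symm hbc)]
    have e4 : (swap a b * swap c f) g = g := by
      rw [Perm.mul_apply, swap_apply_of_ne_of_ne hgc (Ne.symm hfg), swap_apply_of_ne_of_ne (Ne.symm hag) hgb]
    rw [e1, e2, e3, e4] at h1
    exact ⟨hbe, c, g, Ne.symm hgc, hbc, Ne.symm hgb, Ne.symm hce, heg, h1⟩

theorem edge_trans (nq : ∀ a b c d, ¬ QuadT L a b c d) {a b e : α} (h1 : Edge L a b) (h2 : Edge L a e)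
    (hbe : b ≠ e) : Edge L b e := by
  obtain ⟨hab, c, d, hcd, hac, had, hbc, hbd, h⟩ := h1
  obtain ⟨hae, f, g, hfg, haf, hag, hef, heg, h'⟩ := h2
  by_cases hec : e = c
  · subst hec
    exact (nq _ _ _ _ (edge_across hL hab hac had hbc hbd hcd haf hag hef heg hfg h h')).elim
  by_cases hed : e = d
  · subst hed
    rw [swap_comm c e] at h
    exact (nq _ _ _ _ (edge_across hL hab had hac hbd hbc (Ne.symm hcd) haf hag hef heg hfg h h')).elim
  by_cases hf : f = b ∨ f = c ∨ f = d
  · exact trans_aux hL nq hab hac had hbc hbd hcd hae hbe (Ne.symm hec) (Ne.symm hed) haf hag hef heg hfg h h' hf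
  by_cases hg : g = b ∨ g = c ∨ g = d
  · rw [swap_comm f g] at h'
    exact trans_aux hL nq hab hac had hbc hbd hcd hae hbe (Ne.symm hec) (Ne.symm hed) hag haf heg hef
      (Ne.symm hfg) h h' hg
  rw [not_or, not_or] at hf hg
  exact (meet_one hL hab hac had hbc hbd hcd hae haf hag hbe (Ne.symm hf.1) (Ne.symm hg.1) (Ne.symm hec)
    (Ne.symm hf.2.1) (Ne.symm hg.2.1) (Ne.symm hed) (Ne.symm hf.2.2) (Ne.symm hg.2.2) h h').elim

/-- a quad makes the group two-transitive, so the degree is at most 9 -/
theorem no_quad (hprim : IsPreprimitive L α) (hA : ¬ alternatingGroup α ≤ L) (h10 : 10 ≤ Fintype.card α)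
    {a b c d : α} (h : QuadT L a b c d) : False := by
  obtain ⟨hab, hac, had, hbc, hbd, hcd, h1, h2, h3⟩ := h
  let j : Fin 4 ↪ α := ⟨![a, b, c, d], by
    intro i k h
    fin_cases i <;> fin_cases k <;> first
      | rfl
      | exact absurd h hab
      | exact absurd h hac
      | exact absurd h had
      | exact absurd h hbc
      | exact absurd h hbd
      | exact absurd h hcd
      | exact absurd h.symm hab
      | exact absurd h.symm hac
      | exact absurd h.symm had
      | exact absurd h.symm hbc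
      | exact absurd h.symm hbd
      | exact absurd h.symm hcd⟩
  have hq := Cfsg.Agent.H237.AltCore.Quad.of_VS j (Cfsg.Agent.H237.AltCore.VS_sub (j := j) (H := L) h1 h2 h3)
  have h2t : IsMultiplyPretransitive L α 2 := by
    rw [is_two_pretransitive_iff]
    intro u v u' v' huv huv'
    obtain ⟨g, hg, e1, e2⟩ := hq.two_trans hprim (by omega) u v u' v' huv huv'
    exact ⟨⟨g, hg⟩, e1, e2⟩
  have hx1 : swap a b * swap c d ≠ 1 := by
    intro h
    have := congrArg (fun w : Perm α => w a) h
    have h' : (swap a b * swap c d) a = a := this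
    rw [Perm.mul_apply, swap_apply_of_ne_of_ne hac had, swap_apply_left] at h'
    exact hab h'.symm
  have hmd := Cfsg.Agent.H901.MinDeg.min_degree L h2t (by omega) hA _ h1 hx1
  have hsup : (swap a b * swap c d).support.card ≤ 4 := by
    have : (swap a b * swap c d).support ⊆ {a, b, c, d} := by
      intro q hq
      by_contra h
      simp only [Finset.mem_insert, Finset.mem_singleton, not_or] at h
      apply Perm.mem_support.1 hq
      rw [Perm.mul_apply, swap_apply_of_ne_of_ne h.2.2.1 h.2.2.2, swap_apply_of_ne_of_ne h.1 h.2.1]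
    exact (Finset.card_le_card this).trans Finset.card_le_four
  have h9 : ((swap a b * swap c d).support.card - 1) ^ 2 ≤ 3 ^ 2 := Nat.pow_le_pow_left (by omega) 2
  omega

theorem no_double (hprim : IsPreprimitive L α) (hA : ¬ alternatingGroup α ≤ L) (h10 : 10 ≤ Fintype.card α)
    {a b c d : α} (hab : a ≠ b) (hac : a ≠ c) (had : a ≠ d) (hbc : b ≠ c) (hbd : b ≠ d) (hcd : c ≠ d)
    (h : swap a b * swap c d ∈ L) : False := by
  have nq : ∀ a b c d, ¬ QuadT L a b c d := fun a b c d h => no_quad hL hprim hA h10 h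
  have hE : Edge L a b := ⟨hab, c, d, hcd, hac, had, hbc, hbd, h⟩
  have heq : Equivalence (fun u v : α => u = v ∨ Edge L u v) := by
    refine ⟨fun u => Or.inl rfl, ?_, ?_⟩
    · rintro u v (rfl | h)
      · exact Or.inl rfl
      · exact Or.inr h.symm
    · rintro u v w (rfl | h1) (rfl | h2)
      · exact Or.inl rfl
      · exact Or.inr h2
      · exact Or.inr h1
      · by_cases huw : u = w
        · exact Or.inl huw
        · exact Or.inr (edge_trans hL nq h1.symm h2 huw)
  have hall := Cfsg.Agent.PermutationGroups.OrderBound.Disting.rel_all_of_rel (G := L) _ heq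
    (by
      rintro g u v (rfl | h)
      · exact Or.inl rfl
      · exact Or.inr (h.image g.2)) hab (Or.inr hE) a c
  rcases hall with h1 | ⟨_, f, g, hfg, haf, hag, hcf, hcg, h'⟩
  · exact hac h1
  · exact nq _ _ _ _ (edge_across hL hab hac had hbc hbd hcd haf hag hcf hcg hfg h h')

end

theorem sh_of_prim {L : Subgroup (Perm α)} (hprim : IsPreprimitive L α) (hA : ¬ alternatingGroup α ≤ L)
    (h8 : 8 ≤ Fintype.card α) : Sh L where
  three z hz h3 := hA (alternatingGroup_le_of_isPreprimitive_of_isThreeCycle_mem hprim h3 hz)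
  five z hz h5 := by
    by_contra h
    exact hA (Cfsg.Agent.PermutationGroups.PSTransOne.alternating_le_of_small_support L hprim (p := 5)
      (by norm_num) le_rfl (by omega) hz h5 (by omega))

/-- **Minimal degree at least six.** -/
theorem six_of_prim {L : Subgroup (Perm α)} (hprim : IsPreprimitive L α) (hA : ¬ alternatingGroup α ≤ L)
    (h10 : 10 ≤ Fintype.card α) : Six L := by
  intro z hz hz1
  by_contra hcon
  have hL := sh_of_prim hprim hA (by omega)
  have h1 : orderOf z ≠ 1 := by rwa [Ne, orderOf_eq_one_iff]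
  obtain ⟨q, hq, hqz⟩ := Nat.exists_prime_and_dvd h1
  set x := z ^ (orderOf z / q) with hx
  have hxL : x ∈ L := L.pow_mem hz _
  have hox : orderOf x = q := orderOf_pow_orderOf_div (orderOf_pos z).ne' hqz
  have hx1 : x ≠ 1 := by
    intro h
    rw [h, orderOf_one] at hox
    exact hq.one_lt.ne hox
  have hsx : x.support.card ≤ 5 := by
    have : x.support.card ≤ z.support.card := Finset.card_le_card (Perm.support_pow_le z (orderOf z / q))
    omega
  have h3 := Cfsg.Agent.H901.MinDeg.three_lt_support L hprim hA x hxL hx1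
  obtain ⟨k, hk, hkc⟩ := Cfsg.Agent.PermutationGroups.PSTransOne.exists_support_card hq hox
  rcases hq.eq_two_or_odd' with h2 | ho
  · -- a double transposition
    have hxx : ∀ u, x (x u) = u := by
      intro u
      have := pow_orderOf_eq_one x
      rw [hox, h2, sq] at this
      rw [← Perm.mul_apply, this]
      rfl
    have h4 : x.support.card = 4 := by
      rw [h2] at hkc
      omega
    obtain ⟨a, ha⟩ : ∃ a, a ∈ x.support := Finset.card_pos.1 (by omega)
    obtain ⟨c, hc, hcn⟩ : ∃ c ∈ x.support, c ∉ ({a, x a} : Finset α) :=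
      Finset.exists_mem_notMem_of_card_lt_card (lt_of_le_of_lt (Finset.card_le_two) (by omega))
    rw [Finset.mem_insert, Finset.mem_singleton, not_or] at hcn
    rw [Perm.mem_support] at ha hc
    have d1 : x c ≠ a := by
      intro h
      apply hcn.2
      rw [← h, hxx]
    have d2 : x c ≠ x a := fun h => hcn.1 (x.injective h)
    have hsup : x.support = {a, x a, c, x c} := by
      symm
      apply Finset.eq_of_subset_of_card_le
      · intro u hu
        simp only [Finset.mem_insert, Finset.mem_singleton] at hu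
        rw [Perm.mem_support]
        rcases hu with rfl | rfl | rfl | rfl
        · exact ha
        · exact fun h => ha (x.injective h)
        · exact hc
        · exact fun h => hc (x.injective h)
      · rw [h4, Finset.card_insert_of_notMem (by
          simp only [Finset.mem_insert, Finset.mem_singleton, not_or]
          exact ⟨Ne.symm ha, Ne.symm hcn.1, Ne.symm d1⟩), Finset.card_insert_of_notMem (by
          simp only [Finset.mem_insert, Finset.mem_singleton, not_or]
          exact ⟨Ne.symm hcn.2, Ne.symm d2⟩), Finset.card_pair (Ne.symm hc)]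
    have hxe : x = swap a (x a) * swap c (x c) := by
      ext u
      by_cases hu : u ∈ x.support
      · rw [hsup] at hu
        simp only [Finset.mem_insert, Finset.mem_singleton] at hu
        rcases hu with hu | hu | hu | hu
        · rw [hu, Perm.mul_apply, swap_apply_of_ne_of_ne (Ne.symm hcn.1) (Ne.symm d1), swap_apply_left]
        · rw [hu, hxx, Perm.mul_apply, swap_apply_of_ne_of_ne (Ne.symm hcn.2) (Ne.symm d2), swap_apply_right]
        · rw [hu, Perm.mul_apply, swap_apply_left, swap_apply_of_ne_of_ne d1 d2]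
        · rw [hu, hxx, Perm.mul_apply, swap_apply_right, swap_apply_of_ne_of_ne hcn.1 hcn.2]
      · have h5 : x u = u := by
          rw [Perm.mem_support, not_not] at hu
          exact hu
        rw [hsup] at hu
        simp only [Finset.mem_insert, Finset.mem_singleton, not_or] at hu
        rw [h5, Perm.mul_apply, swap_apply_of_ne_of_ne hu.2.2.1 hu.2.2.2, swap_apply_of_ne_of_ne hu.1 hu.2.1]
    exact no_double hL hprim hA h10 (Ne.symm ha) (Ne.symm hcn.1) (Ne.symm d1) (Ne.symm hcn.2) (Ne.symm d2)
      (Ne.symm hc) (hxe ▸ hxL)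
  · have hq3 : q ≠ 2 := by
      rintro rfl
      exact absurd ho (by decide)
    have hq2 := hq.two_le
    -- `q = 3` has support 3, `q = 5` is excluded
    have hk0 : k = 0 := by
      by_contra h
      have h5 : 2 * q ≤ (k + 1) * q := Nat.mul_le_mul_right q (by omega)
      omega
    rw [hk0] at hkc
    have hq45 : q = 4 ∨ q = 5 := by omega
    rcases hq45 with h | h
    · rw [h] at hq
      exact absurd hq (by norm_num)
    · have := hL.five x hxL (by rw [hox, h])
      omega

/-- **S3509, `T = A_n`: primitive groups of degree at least 10.** -/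
theorem reg_ten (h10 : 10 ≤ Fintype.card α) (L : Subgroup (Perm α)) (hprim : IsPreprimitive L α)
    (hA : ¬ alternatingGroup α ≤ L) (g : Perm α) :
    ∃ s ∈ alternatingGroup α, ∀ z ∈ Subgroup.zpowers g, s * z * s⁻¹ ∈ L → z = 1 :=
  reg_of_six (six_of_prim hprim hA h10) g

end Cfsg.Agent.H711.RCA
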